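import Cfsg.Agent.Lib.FPS3.Star
import Cfsg.Agent.S0217

/-!
# The minimal counterexample does not exist
-/

set_option autoImplicit false
set_option linter.unusedSectionVars false
set_option linter.unusedVariables false

namespace Cfsg.Agent.Lib.FPS3.Fusion

open Subgroup Cfsg Cfsg.Agent.Lib.FPS3.Basic Cfsg.Agent.Lib.Core.Basic
open Cfsg.Agent.Lib.PLocal.Alperin Cfsg.Agent.Lib.FPS3.Sub

universe u

variable {G : Type u} [Group G] [Finite G] {φ : G →* G} {T : Sylow 2 G}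

/-- Two involutions with a product of odd order are conjugate. -/
theorem conj_of_odd_product {u u' : G} (hu : u * u = 1) (hu' : u' * u' = 1)
    (hodd : ¬ 2 ∣ orderOf (u * u')) : ∃ r, r⁻¹ * u * r = u' := by
  have huinv : u⁻¹ = u := inv_eq_of_mul_eq_one_left hu
  have hu'inv : u'⁻¹ = u' := inv_eq_of_mul_eq_one_left hu'
  set t : G := u * u' with ht
  have hc : Nat.Coprime 2 (orderOf t) := (Nat.Prime.coprime_iff_not_dvd Nat.prime_two).mpr hodd
  obtain ⟨m, hm⟩ := exists_pow_eq_self_of_coprime hc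
  set r : G := t ^ m with hr
  have hr2 : r * r = t := by
    rw [hr, ← pow_two, ← pow_mul, mul_comm, pow_mul]; exact hm
  have hinv : u * t * u⁻¹ = t⁻¹ := by
    rw [ht, huinv, mul_inv_rev, hu'inv, huinv]
    calc u * (u * u') * u = (u * u) * u' * u := by group
      _ = u' * u := by rw [hu, one_mul]
  have hinvr : u * r * u⁻¹ = r⁻¹ := by
    rw [hr]
    have e : u * t ^ m * u⁻¹ = (u * t * u⁻¹) ^ m := by
      rw [conj_pow]
    rw [e, hinv, inv_pow]
  refine ⟨r, ?_⟩
  have h1 : u * r = r⁻¹ * u := by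
    calc u * r = (u * r * u⁻¹) * u := by group
      _ = r⁻¹ * u := by rw [hinvr]
  calc r⁻¹ * u * r = r⁻¹ * (u * r) := by group
    _ = r⁻¹ * (r⁻¹ * u) := by rw [h1]
    _ = (r * r)⁻¹ * u := by group
    _ = t⁻¹ * u := by rw [hr2]
    _ = u' := by
      rw [ht, mul_inv_rev, hu'inv, huinv]
      calc u' * u * u = u' * (u * u) := by group
        _ = u' := by rw [hu, mul_one]

theorem mem_smul_sylow (T : Sylow 2 G) (c x : G) :
    x ∈ ((c • T : Sylow 2 G) : Subgroup G) ↔ c⁻¹ * x * c ∈ (T : Subgroup G) := by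
  rw [Sylow.smul_def, Sylow.pointwise_smul_def, Subgroup.mem_pointwise_smul_iff_inv_smul_mem]
  have e : (MulAut.conj c)⁻¹ • x = c⁻¹ * x * c := by
    rw [MulAut.smul_def, ← map_inv, MulAut.conj_apply, inv_inv]
  rw [e]

/-- A 2-subgroup is conjugate into `T`. -/
theorem exists_conj_of_two_group (T : Sylow 2 G) (P : Subgroup G) (hP : IsPGroup 2 P) :
    ∃ g : G, ∀ p ∈ P, g⁻¹ * p * g ∈ (T : Subgroup G) := by
  obtain ⟨S, hS⟩ := hP.exists_le_sylow
  obtain ⟨g, hg⟩ := MulAction.exists_smul_eq G T S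
  refine ⟨g, fun p hp => ?_⟩
  rw [← mem_smul_sylow, hg]
  exact hS hp

/-- Well-definedness of the conjugate of `M`. -/
theorem wd_lemma (T : Sylow 2 G) (M : Subgroup G)
    (hN : normalizer ((T : Subgroup G) : Set G) ≤ M)
    (hC : ∀ w ∈ Zof T, w ≠ 1 → centralizer ({w} : Set G) ≤ M)
    {z z' : G} (hz : z ∈ Zof T) (hz1 : z ≠ 1) (hz' : z' ∈ Zof T) {g g' : G}
    (e : g * z * g⁻¹ = g' * z' * g'⁻¹) : g⁻¹ * g' ∈ M := by
  set c : G := g⁻¹ * g' with hc
  have hzc : z = c * z' * c⁻¹ := by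
    have h1 : z = g⁻¹ * (g * z * g⁻¹) * g := by group
    rw [h1, e, hc]; group
  set Y : Subgroup G := centralizer ({z} : Set G) with hY
  have hmemY : ∀ y, y ∈ Y ↔ y * z = z * y := fun y => Subgroup.mem_centralizer_singleton_iff
  have hT1 : (T : Subgroup G) ≤ Y := fun t ht => (hmemY t).mpr (hz.2.1 t ht)
  have hT2 : ((c • T : Sylow 2 G) : Subgroup G) ≤ Y := by
    intro x hx
    rw [mem_smul_sylow] at hx
    rw [hmemY]
    have h1 := hz'.2.1 _ hx
    rw [hzc]
    calc x * (c * z' * c⁻¹) = c * ((c⁻¹ * x * c) * z') * c⁻¹ := by group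
      _ = c * (z' * (c⁻¹ * x * c)) * c⁻¹ := by rw [h1]
      _ = c * z' * c⁻¹ * x := by group
  obtain ⟨d, hd⟩ := MulAction.exists_smul_eq Y (T.subtype hT1) ((c • T).subtype hT2)
  rw [Sylow.smul_subtype] at hd
  have h2 := Sylow.subtype_injective hd
  have h3 : ((d : G)⁻¹ * c) • T = T := by
    rw [mul_smul, ← h2]
    have : (d • T : Sylow 2 G) = (d : G) • T := rfl
    rw [this, inv_smul_smul]
  have h4 : (d : G)⁻¹ * c ∈ normalizer ((T : Subgroup G) : Set G) :=
    Sylow.smul_eq_iff_mem_normalizer.mp h3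
  have h5 : (d : G) ∈ M := hC z hz hz1 d.2
  have e2 : c = (d : G) * ((d : G)⁻¹ * c) := by group
  rw [e2]
  exact mul_mem h5 (hN h4)

/-- The key conjugacy lemma: `N(T)` and the centralizers generate a normal subgroup, indeed all. -/
theorem fin_lemma (T : Sylow 2 G)
    (hstr : ∀ z ∈ Zof T, ∀ g : G, g⁻¹ * z * g ∈ (T : Subgroup G) → g⁻¹ * z * g ∈ Zof T)
    {a b : G} (ha : a ∈ Zof T) (hb : b ∈ Zof T) (ha1 : a ≠ 1) (hb1 : b ≠ 1)
    (hab : ∀ g : G, g⁻¹ * a * g ≠ b) (M : Subgroup G)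
    (hN : normalizer ((T : Subgroup G) : Set G) ≤ M)
    (hC : ∀ w ∈ Zof T, w ≠ 1 → centralizer ({w} : Set G) ≤ M) (h : G) : h ∈ M := by
  have WD := @wd_lemma G _ _ T M hN hC
  obtain ⟨x, hx⟩ : ∃ x, x = h * a * h⁻¹ := ⟨_, rfl⟩
  have hx2 : x * x = 1 := by
    rw [hx]
    calc h * a * h⁻¹ * (h * a * h⁻¹) = h * (a * a) * h⁻¹ := by group
      _ = 1 := by rw [ha.2.2]; group
  have hy2 : b * b = 1 := hb.2.2
  have hxi : x⁻¹ = x := inv_eq_of_mul_eq_one_left hx2
  have hyi : b⁻¹ = b := inv_eq_of_mul_eq_one_left hy2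
  obtain ⟨ρ, hρ⟩ : ∃ ρ, ρ = x * b := ⟨_, rfl⟩
  have hρx : x * ρ * x⁻¹ = ρ⁻¹ := by
    rw [hρ, mul_inv_rev, hxi, hyi]
    calc x * (x * b) * x = (x * x) * b * x := by group
      _ = b * x := by rw [hx2, one_mul]
  have hρy : b * ρ * b⁻¹ = ρ⁻¹ := by
    rw [hρ, mul_inv_rev, hxi, hyi]
    calc b * (x * b) * b = b * x * (b * b) := by group
      _ = b * x := by rw [hy2, mul_one]
  have hpowx : ∀ n : ℕ, x * ρ ^ n * x⁻¹ = (ρ ^ n)⁻¹ := by
    intro n
    rw [← conj_pow, hρx, inv_pow]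
  have hpowy : ∀ n : ℕ, b * ρ ^ n * b⁻¹ = (ρ ^ n)⁻¹ := by
    intro n
    rw [← conj_pow, hρy, inv_pow]
  by_cases hn2 : 2 ∣ orderOf ρ
  swap
  · exfalso
    rw [hρ] at hn2
    obtain ⟨r, hr⟩ := conj_of_odd_product hx2 hy2 hn2
    apply hab (h⁻¹ * r)
    rw [← hr, hx]
    group
  have hn0 : orderOf ρ ≠ 0 := (orderOf_pos ρ).ne'
  obtain ⟨e, m, hm, hnm⟩ := Nat.exists_eq_two_pow_mul_odd hn0
  have hm0 : 0 < m := hm.pos
  obtain ⟨s, hs⟩ : ∃ s, s = ρ ^ m := ⟨_, rfl⟩
  have hs2e : s ^ 2 ^ e = 1 := by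
    rw [hs, ← pow_mul, mul_comm, ← hnm, pow_orderOf_eq_one]
  have hzp : ∀ {v : G} {j : ℕ}, v ^ 2 ^ j = 1 → IsPGroup 2 (zpowers v) := by
    intro v j hv
    rintro ⟨_, i, rfl⟩
    refine ⟨j, ?_⟩
    apply Subtype.ext
    show (v ^ i) ^ 2 ^ j = 1
    rw [← zpow_natCast _ (2 ^ j), ← zpow_mul, mul_comm, zpow_mul, zpow_natCast, hv, one_zpow]
  have hsupP : ∀ {v w : G} {i j : ℕ}, v ^ 2 ^ i = 1 → w ^ 2 ^ j = 1 →
      (∃ t : ℤ, v * w * v⁻¹ = w ^ t) → IsPGroup 2 ↥(zpowers v ⊔ zpowers w) := by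
    intro v w i j hv hw ⟨t, ht⟩
    refine (hzp hv).to_sup_of_normal_right' (hzp hw) ?_
    rw [zpowers_le]
    apply mem_normalizer_of_conj
    rintro _ ⟨q, rfl⟩
    refine ⟨t * q, ?_⟩
    show w ^ (t * q) = v * w ^ q * v⁻¹
    rw [← conj_zpow, ht, ← zpow_mul]
  -- the Sylow subgroup containing `x` and `s`
  have hxs : x * s * x⁻¹ = s⁻¹ := by rw [hs]; exact hpowx m
  have hP := hsupP (v := x) (w := s) (i := 1) (j := e) (by rw [pow_one, pow_two]; exact hx2) hs2e
    ⟨-1, by rw [hxs, zpow_neg_one]⟩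
  obtain ⟨g, hg⟩ := exists_conj_of_two_group T _ hP
  have hxP : x ∈ zpowers x ⊔ zpowers s := le_sup_left (a := zpowers x) (b := zpowers s) (mem_zpowers x)
  have hsP : s ∈ zpowers x ⊔ zpowers s := le_sup_right (a := zpowers x) (b := zpowers s) (mem_zpowers s)
  obtain ⟨gx, hgx⟩ : ∃ gx, gx = g⁻¹ * x * g := ⟨_, rfl⟩
  have hgxZ : gx ∈ Zof T := by
    have h1 := hg x hxP
    have e1 : g⁻¹ * x * g = (h⁻¹ * g)⁻¹ * a * (h⁻¹ * g) := by rw [hx]; group
    rw [hgx, e1]
    rw [e1] at h1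
    exact hstr a ha _ h1
  have hgx1 : gx ≠ 1 := by
    intro h1
    apply ha1
    have h2 : x = 1 := by
      have : x = g * gx * g⁻¹ := by rw [hgx]; group
      rw [this, h1]; group
    have h3 : a = h⁻¹ * x * h := by rw [hx]; group
    rw [h3, h2]; group
  have hgs : g⁻¹ * s * g ∈ (T : Subgroup G) := hg s hsP
  -- `x` commutes with `s`
  have hxs_comm : x * s = s * x := by
    have h1 := hgxZ.2.1 _ hgs
    calc x * s = g * (gx * (g⁻¹ * s * g)) * g⁻¹ := by rw [hgx]; group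
      _ = g * ((g⁻¹ * s * g) * gx) * g⁻¹ := by rw [h1]
      _ = s * x := by rw [hgx]; group
  have hss : s * s = 1 := by
    have h1 : s = s⁻¹ := by
      rw [← hxs, hxs_comm]; group
    exact eq_inv_iff_mul_eq_one.mp h1
  have hsi : s⁻¹ = s := inv_eq_of_mul_eq_one_left hss
  have hs1 : s ≠ 1 := by
    intro h1
    have h2 : orderOf ρ ∣ m := orderOf_dvd_of_pow_eq_one (by rw [← hs, h1])
    exact hm.not_two_dvd_nat (hn2.trans h2)
  -- the element `f = x s`
  obtain ⟨f, hf⟩ : ∃ f, f = x * s := ⟨_, rfl⟩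
  have hff : f * f = 1 := by
    rw [hf]
    calc x * s * (x * s) = x * (s * x) * s := by group
      _ = x * (x * s) * s := by rw [hxs_comm]
      _ = (x * x) * (s * s) := by group
      _ = 1 := by rw [hx2, hss, one_mul]
  have hfb : f * b = s * ρ := by
    rw [hf, hρ, hxs_comm, mul_assoc]
  have hsρ : s * ρ = ρ * s := by
    rw [hs]
    exact (Commute.pow_left (Commute.refl ρ) m)
  have hsm : s ^ m = s := by
    obtain ⟨l, hl⟩ := hm
    rw [hl, pow_succ, pow_mul, pow_two, hss, one_pow, one_mul]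
  have hζ : (s * ρ) ^ m = 1 := by
    rw [(show Commute s ρ from hsρ).mul_pow, hsm, ← hs, hss]
  have hodd : ¬ 2 ∣ orderOf (f * b) := by
    rw [hfb]
    intro hd
    exact hm.not_two_dvd_nat (hd.trans (orderOf_dvd_of_pow_eq_one hζ))
  obtain ⟨r, hr⟩ := conj_of_odd_product hff hy2 hodd
  have hfP : f ∈ zpowers x ⊔ zpowers s := by
    rw [hf]; exact mul_mem hxP hsP
  have hgf : g⁻¹ * f * g ∈ Zof T := by
    have h1 := hg f hfP
    have e1 : g⁻¹ * f * g = (r⁻¹ * g)⁻¹ * b * (r⁻¹ * g) := by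
      rw [← hr]; group
    rw [e1] at h1 ⊢
    exact hstr b hb _ h1
  obtain ⟨z₀, hz₀⟩ : ∃ z₀, z₀ = g⁻¹ * s * g := ⟨_, rfl⟩
  have hz₀Z : z₀ ∈ Zof T := by
    have e1 : z₀ = gx * (g⁻¹ * f * g) := by
      rw [hz₀, hgx, hf]
      calc g⁻¹ * s * g = g⁻¹ * ((x * x) * s) * g := by rw [hx2, one_mul]
        _ = g⁻¹ * x * g * (g⁻¹ * (x * s) * g) := by group
    rw [e1]
    exact mul_mem hgxZ hgf
  have hz₀1 : z₀ ≠ 1 := by
    intro h1
    apply hs1
    have : s = g * z₀ * g⁻¹ := by rw [hz₀]; group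
    rw [this, h1]; group
  -- the Sylow subgroup containing `b` and `s`
  have hbs : b * s * b⁻¹ = s := by
    have h1 := hpowy m
    rw [← hs, hsi] at h1
    exact h1
  have hP₃ := hsupP (v := b) (w := s) (i := 1) (j := e) (by rw [pow_one, pow_two]; exact hy2) hs2e
    ⟨1, by rw [hbs, zpow_one]⟩
  obtain ⟨g₃, hg₃⟩ := exists_conj_of_two_group T _ hP₃
  have hbP₃ : b ∈ zpowers b ⊔ zpowers s := le_sup_left (a := zpowers b) (b := zpowers s) (mem_zpowers b)
  have hsP₃ : s ∈ zpowers b ⊔ zpowers s := le_sup_right (a := zpowers b) (b := zpowers s) (mem_zpowers s)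
  obtain ⟨z₃, hz₃⟩ : ∃ z₃, z₃ = g₃⁻¹ * b * g₃ := ⟨_, rfl⟩
  have hz₃Z : z₃ ∈ Zof T := by
    rw [hz₃]
    exact hstr b hb _ (hg₃ b hbP₃)
  obtain ⟨z₄, hz₄⟩ : ∃ z₄, z₄ = g₃⁻¹ * s * g₃ := ⟨_, rfl⟩
  have hz₄Z : z₄ ∈ Zof T := by
    have h1 := hg₃ s hsP₃
    have e1 : g₃⁻¹ * s * g₃ = (g⁻¹ * g₃)⁻¹ * z₀ * (g⁻¹ * g₃) := by
      rw [hz₀]; group
    rw [hz₄, e1]
    rw [e1] at h1
    exact hstr z₀ hz₀Z _ h1
  have W1 := WD hb hb1 hz₃Z (g := 1) (g' := g₃) (by rw [hz₃]; group)
  have W2 := WD hz₀Z hz₀1 hz₄Z (g := g) (g' := g₃) (by rw [hz₀, hz₄]; group)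
  have W3 := WD ha ha1 hgxZ (g := h) (g' := g) (by rw [hgx, hx]; group)
  have hg₃M : g₃ ∈ M := by simpa using W1
  have hgM : g ∈ M := by
    have h1 := mul_mem W2 (inv_mem hg₃M)
    have h2 : g⁻¹ * g₃ * g₃⁻¹ = g⁻¹ := by group
    rw [h2] at h1
    simpa using inv_mem h1
  have h1 := mul_mem W3 (inv_mem hgM)
  have h2 : h⁻¹ * g * g⁻¹ = h⁻¹ := by group
  rw [h2] at h1
  simpa using inv_mem h1

/-- `θ` is equivariant. -/
theorem thetaOf_conj {z x : G} (g : G) (hx : x ∈ thetaOf z) : g * x * g⁻¹ ∈ thetaOf (g * z * g⁻¹) := by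
  have hle := le_oddOf (centralizer ({g * z * g⁻¹} : Set G))
    ((thetaOf z).map (MulAut.conj g).toMonoidHom) (by
      rintro _ ⟨y, hy, rfl⟩
      have h1 : y * z = z * y := Subgroup.mem_centralizer_singleton_iff.mp (oddOf_le _ hy)
      rw [Subgroup.mem_centralizer_singleton_iff]
      show g * y * g⁻¹ * (g * z * g⁻¹) = g * z * g⁻¹ * (g * y * g⁻¹)
      calc g * y * g⁻¹ * (g * z * g⁻¹) = g * (y * z) * g⁻¹ := by group
        _ = g * (z * y) * g⁻¹ := by rw [h1]
        _ = g * z * g⁻¹ * (g * y * g⁻¹) := by group) (by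
      rw [Subgroup.card_map_of_injective (MulEquiv.injective _)]
      exact oddOf_odd _) (by
      rintro y hy _ ⟨b, hb, rfl⟩
      have hy0 : g⁻¹ * y * g ∈ centralizer ({z} : Set G) := by
        rw [Subgroup.mem_centralizer_singleton_iff]
        have h1 : y * (g * z * g⁻¹) = g * z * g⁻¹ * y := Subgroup.mem_centralizer_singleton_iff.mp hy
        calc g⁻¹ * y * g * z = g⁻¹ * (y * (g * z * g⁻¹)) * g := by group
          _ = g⁻¹ * (g * z * g⁻¹ * y) * g := by rw [h1]
          _ = z * (g⁻¹ * y * g) := by group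
      have h2 := oddOf_conj _ hy0 hb
      refine ⟨_, h2, ?_⟩
      show g * (g⁻¹ * y * g * b * (g⁻¹ * y * g)⁻¹) * g⁻¹ = y * (g * b * g⁻¹) * y⁻¹
      group)
  exact hle ⟨x, hx, rfl⟩

/-- **The minimal counterexample does not exist.** -/
theorem CaseC.false (C : CaseC φ T)
    (hFT : ∀ (H : Type u) [Group H] [Finite H], Odd (Nat.card H) → Group.IsSolvable H) : False := by
  classical
  obtain ⟨a, ha, ha1⟩ := C.exists_Z
  have hb : φ a ∈ Zof T := C.Z_φ ha
  have hc : φ (φ a) ∈ Zof T := C.Z_φ hb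
  have hinj := C.F.inj
  have hb1 : φ a ≠ 1 := fun h => ha1 (hinj (by rw [h, map_one]))
  have hc1 : φ (φ a) ≠ 1 := fun h => hb1 (hinj (by rw [h, map_one]))
  have hab : ∀ g : G, g⁻¹ * a * g ≠ φ a := fun g hg => not_conj C.F ha1 ha.2.2 hg
  have hac : ∀ g : G, g⁻¹ * a * g ≠ φ (φ a) := fun g hg => not_conj' C.F ha1 ha.2.2 hg
  have hstr : ∀ z ∈ Zof T, ∀ g : G, g⁻¹ * z * g ∈ (T : Subgroup G) → g⁻¹ * z * g ∈ Zof T :=
    fun z hz g hg => C.strong hz hg
  by_cases h8 : 8 ≤ Nat.card (Zof T)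
  · -- the signalizer functor theorem applies
    have hsig := @Cfsg.Agent.S0217.result G _ _ 2 _ (Zof T) (fun a ha b hb => Zof_comm ha hb)
      (fun a ha => by rw [pow_two]; exact ha.2.2) (by norm_num; exact h8) thetaOf
      (fun a ha _ => oddOf_le _)
      (fun a ha _ => oddOf_odd _)
      (fun a ha _ b hb x hx => oddOf_conj _ (Subgroup.mem_centralizer_singleton_iff.mpr (ha.2.1 b hb.1)) hx)
      (fun a ha _ => hFT _ (Nat.odd_iff.mpr (by
        have h0 : ¬ 2 ∣ Nat.card ↥(thetaOf a) := oddOf_odd _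
        omega)))
      (fun a ha _ b hb hb1 => C.balance ha hb hb1)
    obtain ⟨hW, -⟩ := hsig
    set W : Subgroup G := ⨆ a : {a : G // a ∈ Zof T ∧ a ≠ 1}, thetaOf a with hWdef
    have hthW : ∀ z ∈ Zof T, z ≠ 1 → thetaOf z ≤ W := fun z hz hz1 =>
      le_iSup (fun a : {a : G // a ∈ Zof T ∧ a ≠ 1} => thetaOf (a : G)) ⟨z, hz, hz1⟩
    by_cases hW0 : W = ⊥
    · -- `M = N(T)`
      have hM := fin_lemma T hstr ha hb ha1 hb1 hab (normalizer ((T : Subgroup G) : Set G)) le_rfl (by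
        intro w hw hw1 y hy
        obtain ⟨b', hb', k, hk, -, e⟩ := C.star hw hw1 hy
        have h1 : b' ∈ W := hthW w hw hw1 hb'
        rw [hW0, Subgroup.mem_bot] at h1
        rw [e, h1, one_mul]
        exact hk)
      have h1 : (T : Subgroup G).Normal := by
        rw [← Subgroup.normalizer_eq_top_iff]
        exact eq_top_iff.mpr fun x _ => hM x
      have h2 := le_pCore h1 T.isPGroup'
      rw [C.two, le_bot_iff] at h2
      exact C.ne h2
    · -- `M = N(W)`
      have hkW : ∀ k ∈ normalizer ((T : Subgroup G) : Set G), k ∈ normalizer (W : Set G) := by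
        intro k hk
        apply mem_normalizer_of_conj
        have h1 : W ≤ W.comap (MulAut.conj k).toMonoidHom := by
          apply iSup_le
          rintro ⟨z, hz, hz1⟩ x hx
          have h2 := thetaOf_conj k hx
          have hz2 : k * z * k⁻¹ ∈ Zof T := Zof_conj hk hz
          have hz3 : k * z * k⁻¹ ≠ 1 := by
            intro h3
            apply hz1
            have : z = k⁻¹ * (k * z * k⁻¹) * k := by group
            rw [this, h3]; group
          exact hthW _ hz2 hz3 h2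
        exact fun x hx => h1 hx
      have hM := fin_lemma T hstr ha hb ha1 hb1 hab (normalizer (W : Set G)) hkW (by
        intro w hw hw1 y hy
        obtain ⟨b', hb', k, hk, -, e⟩ := C.star hw hw1 hy
        rw [e]
        exact mul_mem (Subgroup.le_normalizer (hthW w hw hw1 hb')) (hkW k hk))
      have h1 : W.Normal := by
        rw [← Subgroup.normalizer_eq_top_iff]
        exact eq_top_iff.mpr fun x _ => hM x
      exact hW0 (eq_bot_of_normal_odd C.odd h1 hW)
  · -- the Z*-theorem applies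
    have hall : ∀ x ∈ Zof T, x = 1 ∨ x = a ∨ x = φ a ∨ x = φ (φ a) := by
      intro x hx
      by_contra hne
      push Not at hne
      obtain ⟨hx1, hxa, hxb, hxc⟩ := hne
      apply h8
      have hab' : a ≠ φ a := fun h => ha1 (C.fpf ha.1 h.symm)
      have hac' : a ≠ φ (φ a) := by
        intro h
        apply hab'
        have h2 := congrArg φ h
        rw [C.F.cube] at h2
        exact h2.symm
      have hbc' : φ a ≠ φ (φ a) := fun h => hab' (hinj h)
      have hcard : 5 ≤ Nat.card (Zof T) := by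
        haveI := Fintype.ofFinite (Zof T)
        rw [Nat.card_eq_fintype_card]
        let S : Finset (Zof T) :=
          {⟨1, one_mem _⟩, ⟨a, ha⟩, ⟨φ a, hb⟩, ⟨φ (φ a), hc⟩, ⟨x, hx⟩}
        have hS : S.card = 5 := by
          simp only [S]
          rw [Finset.card_insert_of_notMem (by
                simp only [Finset.mem_insert, Finset.mem_singleton, Subtype.mk.injEq, not_or]
                exact ⟨ha1.symm, hb1.symm, hc1.symm, hx1.symm⟩),
            Finset.card_insert_of_notMem (by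
                simp only [Finset.mem_insert, Finset.mem_singleton, Subtype.mk.injEq, not_or]
                exact ⟨hab', hac', hxa.symm⟩),
            Finset.card_insert_of_notMem (by
                simp only [Finset.mem_insert, Finset.mem_singleton, Subtype.mk.injEq, not_or]
                exact ⟨hbc', hxb.symm⟩),
            Finset.card_insert_of_notMem (by
                simp only [Finset.mem_singleton, Subtype.mk.injEq]
                exact hxc.symm),
            Finset.card_singleton]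
        rw [← hS]
        exact Finset.card_le_univ S
      have hp : IsPGroup 2 (Zof T) := T.isPGroup'.to_le Zof_le
      obtain ⟨n, hn⟩ := IsPGroup.iff_card.mp hp
      rw [hn] at hcard ⊢
      have hn3 : 3 ≤ n := by
        by_contra hlt
        have : n ≤ 2 := by omega
        have h4 : 2 ^ n ≤ 2 ^ 2 := Nat.pow_le_pow_right (by norm_num) this
        omega
      calc 8 = 2 ^ 3 := by norm_num
        _ ≤ 2 ^ n := Nat.pow_le_pow_right (by norm_num) hn3
    have ha2 : orderOf a = 2 := orderOf_eq_prime (by rw [pow_two]; exact ha.2.2) ha1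
    obtain ⟨N, hNn, hNo, hN⟩ := Cfsg.Agent.S0215.result T a ha2 ha.1 (by
      intro g hg
      have h1 : g⁻¹⁻¹ * a * g⁻¹ ∈ (T : Subgroup G) := by
        rw [inv_inv]; exact hg
      have h2 := hstr a ha g⁻¹ h1
      have h3 : g * a * g⁻¹ ∈ Zof T := by simpa using h2
      rcases hall _ h3 with h4 | h4 | h4 | h4
      · exfalso
        apply ha1
        have : a = g⁻¹ * (g * a * g⁻¹) * g := by group
        rw [this, h4]; group
      · exact h4
      · exact absurd (by simpa using h4) (hab g⁻¹)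
      · exact absurd (by simpa using h4) (hac g⁻¹))
    have hN0 : N = ⊥ := eq_bot_of_normal_odd C.odd hNn (fun hd => by
      rcases hNo with ⟨l, hl⟩
      omega)
    obtain ⟨j, hj⟩ := two_elt T ha.1
    apply ha1
    refine eq_one_of_central C.two (fun g => ?_) hj
    have h1 := hN g
    rw [hN0, Subgroup.mem_bot] at h1
    have h2 : a * g = g * a := by
      have e : a * g * a⁻¹ * g⁻¹ = (a * g) * (g * a)⁻¹ := by group
      rw [e] at h1
      exact mul_inv_eq_one.mp h1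
    exact h2.symm

end Cfsg.Agent.Lib.FPS3.Fusion
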