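import Cfsg.Agent.Lib.FPS3.Sub
import Cfsg.Agent.Lib.SFourFree.ClassTwoC

/-!
# Fusion in the minimal counterexample: `N(T)` controls fusion in `T`
-/

set_option autoImplicit false
set_option linter.unusedSectionVars false
set_option linter.unusedVariables false

namespace Cfsg.Agent.Lib.FPS3.Fusion

open Subgroup Cfsg Cfsg.Agent.Lib.FPS3.Basic Cfsg.Agent.Lib.Core.Basic
open Cfsg.Agent.Lib.PLocal.AlperinG Cfsg.Agent.Lib.PLocal.Alperin Cfsg.Agent.Lib.FPS3.Sub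
open Cfsg.Agent.Lib.PLocal.Thompson Cfsg.Agent.Lib.PLocal.ZJ Cfsg.Agent.Lib.Core.Constrained
open Cfsg.Agent.Lib.PLocal.ThompsonFunctor
open scoped commutatorElement

universe u

variable {G : Type u} [Group G] [Finite G] {φ : G →* G}

/-- The situation in the minimal counterexample. -/
structure CaseC (φ : G →* G) (T : Sylow 2 G) : Prop where
  F : F3 φ
  inv : ∀ x ∈ (T : Subgroup G), φ x ∈ (T : Subgroup G)
  odd : pPrimeCore 2 G = ⊥
  two : pCore 2 G = ⊥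
  ne : (T : Subgroup G) ≠ ⊥
  ih : ∀ X : Subgroup G, (∀ x ∈ X, φ x ∈ X) → X ≠ ⊤ → ¬ 2 ∣ (pPrimePCore 2 X).index

variable {T : Sylow 2 G}

theorem CaseC.cl (C : CaseC φ T) {a b c : G} (ha : a ∈ (T : Subgroup G)) (hb : b ∈ (T : Subgroup G))
    (hc : c ∈ (T : Subgroup G)) : ⁅⁅a, b⁆, c⁆ = 1 := by
  have h1 := Cfsg.Agent.Lib.FPS3.ClassTwo.class_two (C.F.res T C.inv) T.isPGroup' ⟨a, ha⟩ ⟨b, hb⟩ ⟨c, hc⟩
  exact congrArg Subtype.val h1

/-- `2`-elements. -/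
theorem two_elt (T : Sylow 2 G) {x : G} (hx : x ∈ (T : Subgroup G)) : ∃ j : ℕ, x ^ 2 ^ j = 1 := by
  obtain ⟨j, hj⟩ := T.isPGroup' ⟨x, hx⟩
  exact ⟨j, congrArg Subtype.val hj⟩

/-- `T` is mapped onto itself. -/
theorem CaseC.inv' (C : CaseC φ T) {x : G} (hx : x ∈ (T : Subgroup G)) :
    φ (φ x) ∈ (T : Subgroup G) := C.inv _ (C.inv _ hx)

/-- `N(J)`: the step given by the inductive hypothesis. -/
theorem CaseC.step_J (C : CaseC φ T) {y : G}
    (hy : y ∈ normalizer ((jOf 2 (T : Subgroup G) : Subgroup G) : Set G)) :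
    ∃ k ∈ normalizer ((T : Subgroup G) : Set G), ∀ a ∈ (T : Subgroup G),
      y⁻¹ * a * y ∈ (T : Subgroup G) → y⁻¹ * a * y = k⁻¹ * a * k := by
  set J : Subgroup G := jOf 2 (T : Subgroup G) with hJ
  set N₁ : Subgroup G := normalizer (J : Set G) with hN₁
  have hfun := pFunctor_jOf.{u} (e := 2) (p := 2) (Or.inr rfl)
  have hJT : J ≤ (T : Subgroup G) := jOf_le _ _
  have hTN : (T : Subgroup G) ≤ N₁ := by
    intro t ht
    exact hfun.normalizer_le _ T.isPGroup' (Subgroup.le_normalizer ht)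
  have hJφ : ∀ x ∈ J, φ x ∈ J := by
    intro x hx
    let e : G ≃* G := MulEquiv.ofBijective φ ⟨C.F.inj, C.F.surj⟩
    have h1 := jOf_map_equiv (e := 2) (T : Subgroup G) e
    have h2 : (T : Subgroup G).map e.toMonoidHom = T := by
      apply le_antisymm
      · rintro _ ⟨t, ht, rfl⟩
        exact C.inv t ht
      · intro t ht
        exact ⟨φ (φ t), C.inv' ht, C.F.cube t⟩
    rw [h2] at h1
    rw [hJ, ← h1]
    exact ⟨x, hx, rfl⟩
  have hN₁φ : ∀ y ∈ N₁, φ y ∈ N₁ := by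
    intro y hy
    apply mem_normalizer_of_conj
    intro j hj
    have h1 : φ (φ j) ∈ J := hJφ _ (hJφ _ hj)
    have h2 := (mem_normalizer_iff.mp hy _).mp h1
    have h3 := hJφ _ h2
    simpa only [map_mul, map_inv, C.F.cube] using h3
  have hne : N₁ ≠ ⊤ := by
    intro hN
    have h1 : J.Normal := normalizer_eq_top_iff.mp hN
    have h2 : J ≤ pCore 2 G := le_pCore h1 (T.isPGroup'.to_le hJT)
    rw [C.two, le_bot_iff] at h2
    exact hfun.ne_bot _ T.isPGroup' C.ne h2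
  obtain ⟨b, hb, k, hk, hkN, e⟩ := ih_sub T N₁ hTN (C.ih N₁ hN₁φ hne) hy
  refine ⟨k, hk, ?_⟩
  intro a ha hyT
  have e1 : y⁻¹ * a * y = k⁻¹ * (b⁻¹ * a * b) * k := by rw [e]; group
  have h1 : b⁻¹ * a * b ∈ (T : Subgroup G) := by
    rw [e1] at hyT
    exact (mem_normalizer_iff.mp (Subgroup.inv_mem _ hk) (b⁻¹ * a * b)).mpr (by simpa using hyT)
  have h2 : b⁻¹ * a * b * a⁻¹ ∈ (T : Subgroup G) := mul_mem h1 (inv_mem ha)
  have h3 : b⁻¹ * a * b * a⁻¹ ∈ oddOf N₁ := by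
    have h4 := oddOf_conj N₁ (hTN ha) hb
    have e2 : b⁻¹ * a * b * a⁻¹ = b⁻¹ * (a * b * a⁻¹) := by group
    rw [e2]
    exact mul_mem (inv_mem hb) h4
  obtain ⟨j, hj⟩ := two_elt T h2
  have h4 := eq_one_of_two_of_odd (oddOf_odd N₁) h3 hj
  have h5 : b⁻¹ * a * b = a := mul_inv_eq_one.mp h4
  rw [e1, h5]

/-- No section of a group of order prime to 3 is isomorphic to `S₄`. -/
theorem not_involves {L : Type*} [Group L] [Finite L] (h : ¬ 3 ∣ Nat.card L) :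
    ¬ Cfsg.Involves (Equiv.Perm (Fin 4)) L := by
  rintro ⟨K, R, hn, ⟨e⟩⟩
  haveI := hn
  have h1 : Nat.card (K ⧸ R.subgroupOf K) = 24 := by
    rw [Nat.card_congr e.toEquiv, Nat.card_eq_fintype_card, Fintype.card_perm]
    rfl
  apply h
  have h2 : Nat.card (K ⧸ R.subgroupOf K) ∣ Nat.card K := Subgroup.card_quotient_dvd_card _
  have h3 : (3 : ℕ) ∣ 24 := by norm_num
  rw [← h1] at h3
  exact h3.trans (h2.trans (Subgroup.card_subgroup_dvd_card K))

theorem mem_sup_of_comm {A B : Subgroup G} (h : ∀ a ∈ A, ∀ b ∈ B, a * b = b * a) {t : G}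
    (ht : t ∈ A ⊔ B) : ∃ a ∈ A, ∃ b ∈ B, a * b = t := by
  let K : Subgroup G :=
    { carrier := {t | ∃ a ∈ A, ∃ b ∈ B, a * b = t}
      mul_mem' := by
        rintro _ _ ⟨a, ha, b, hb, rfl⟩ ⟨c, hc, d, hd, rfl⟩
        refine ⟨a * c, mul_mem ha hc, b * d, mul_mem hb hd, ?_⟩
        calc a * c * (b * d) = a * (c * b) * d := by group
          _ = a * (b * c) * d := by rw [h c hc b hb]
          _ = a * b * (c * d) := by group
      one_mem' := ⟨1, one_mem _, 1, one_mem _, by simp⟩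
      inv_mem' := by
        rintro _ ⟨a, ha, b, hb, rfl⟩
        refine ⟨a⁻¹, inv_mem ha, b⁻¹, inv_mem hb, ?_⟩
        rw [mul_inv_rev]
        have h1 := h a⁻¹ (inv_mem ha) b⁻¹ (inv_mem hb)
        exact h1 }
  have h1 : A ⊔ B ≤ K := sup_le (fun a ha => ⟨a, ha, 1, one_mem _, by simp⟩)
    (fun b hb => ⟨1, one_mem _, b, hb, by simp⟩)
  exact h1 ht

/-- The step for a good subgroup. -/
theorem CaseC.good_step (C : CaseC φ T) {D : Subgroup G} (hD : Good T D) {x : G}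
    (hx : x ∈ normalizer (D : Set G)) :
    ∃ k ∈ normalizer ((T : Subgroup G) : Set G), ∀ a ∈ D, x⁻¹ * a * x = k⁻¹ * a * k := by
  classical
  set L : Subgroup G := normalizer (D : Set G) with hL
  obtain ⟨d1, d2, d3, d4, d5⟩ := hD.dir
  have hDT : D ≤ (T : Subgroup G) := hD.le
  have hCT : ∀ t ∈ (T : Subgroup G), (∀ d ∈ D, d * t = t * d) → t ∈ D := by
    intro t ht hcomm
    have h1 : t ∈ centralizer (D : Set G) := mem_centralizer_iff.mpr hcomm
    have h2 := hD.cent h1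
    rw [← d5] at h2
    obtain ⟨o, ho, d, hd, e⟩ := mem_sup_of_comm d3 h2
    have ho' : o = t * d⁻¹ := by rw [← e]; group
    have hoT : o ∈ (T : Subgroup G) := by
      rw [ho']; exact mul_mem ht (inv_mem (hDT hd))
    obtain ⟨j, hj⟩ := two_elt T hoT
    have h3 : o = 1 := eq_one_of_two_of_odd (oddOf_odd L) ho hj
    rw [h3, one_mul] at e
    rw [← e]; exact hd
  have hTL : (T : Subgroup G) ≤ L := by
    intro t ht
    apply mem_normalizer_of_conj
    intro d hd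
    have hdT := hDT hd
    have h1 : ⁅t, d⁆ ∈ D := by
      apply hCT
      · rw [commutatorElement_def]
        exact mul_mem (mul_mem (mul_mem ht hdT) (inv_mem ht)) (inv_mem hdT)
      · intro e he
        have h2 := C.cl ht hdT (hDT he)
        rw [commutatorElement_eq_one_iff_mul_comm] at h2
        exact h2.symm
    have e : t * d * t⁻¹ = ⁅t, d⁆ * d := by
      rw [commutatorElement_def]; group
    rw [e]
    exact mul_mem h1 hd
  let S : Sylow 2 L := T.subtype hTL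
  have hS : (S : Subgroup L) = (T : Subgroup G).subgroupOf L := Sylow.coe_subtype T hTL
  -- constraint
  have hcon : Cfsg.IsPConstrained 2 L := by
    rw [isPConstrained_iff]
    intro y hy
    obtain ⟨x', rfl⟩ := QuotientGroup.mk_surjective y
    have hD'n : (D.subgroupOf L).Normal := by
      constructor
      intro d hd g
      exact (mem_normalizer_iff.mp g.2 _).mp hd
    have hD'2 : IsPGroup 2 (D.subgroupOf L) := by
      intro z
      obtain ⟨j, hj⟩ := two_elt T (hDT z.2)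
      refine ⟨j, Subtype.ext (Subtype.ext ?_)⟩
      simpa using hj
    have hDh : (D.subgroupOf L).map (QuotientGroup.mk' (pPrimeCore 2 L)) ≤ pCore 2 (L ⧸ pPrimeCore 2 L) :=
      le_pCore (hD'n.map _ (QuotientGroup.mk'_surjective _)) (hD'2.map _)
    have hcomm : ∀ d ∈ D, d * (x' : G) = (x' : G) * d := by
      intro d hd
      have hdL : d ∈ L := hTL (hDT hd)
      have h1 : ((⟨d, hdL⟩ : L) : L ⧸ pPrimeCore 2 L) ∈ pCore 2 (L ⧸ pPrimeCore 2 L) :=
        hDh ⟨⟨d, hdL⟩, hd, rfl⟩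
      have h2 := mem_centralizer_iff.mp hy _ h1
      have h3 : (⟨d, hdL⟩ : L)⁻¹ * x'⁻¹ * (⟨d, hdL⟩ : L) * x' ∈ pPrimeCore 2 L := by
        have h4 : (((x' * (⟨d, hdL⟩ : L)) : L) : L ⧸ pPrimeCore 2 L) = (((⟨d, hdL⟩ : L) * x' : L) : L ⧸ pPrimeCore 2 L) := h2.symm
        have h5 := QuotientGroup.eq.mp h4
        have e : (x' * (⟨d, hdL⟩ : L))⁻¹ * ((⟨d, hdL⟩ : L) * x') = (⟨d, hdL⟩ : L)⁻¹ * x'⁻¹ * (⟨d, hdL⟩ : L) * x' := by group
        rwa [e] at h5
      have h6 : (⟨d, hdL⟩ : L)⁻¹ * x'⁻¹ * (⟨d, hdL⟩ : L) * x' ∈ D.subgroupOf L := by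
        have h7 : (⟨d, hdL⟩ : L) ∈ D.subgroupOf L := hd
        have h8 := hD'n.conj_mem _ h7 x'⁻¹
        have e : (⟨d, hdL⟩ : L)⁻¹ * x'⁻¹ * (⟨d, hdL⟩ : L) * x' = (⟨d, hdL⟩ : L)⁻¹ * (x'⁻¹ * (⟨d, hdL⟩ : L) * x'⁻¹⁻¹) := by group
        rw [e]
        exact mul_mem (inv_mem h7) h8
      have h9 := inf_eq_bot_of_isPGroup_of_coprime hD'2 (pPrimeCore_coprime (p := 2) (G := L))
      have h10 : (⟨d, hdL⟩ : L)⁻¹ * x'⁻¹ * (⟨d, hdL⟩ : L) * x' ∈ D.subgroupOf L ⊓ pPrimeCore 2 L := ⟨h6, h3⟩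
      rw [h9, Subgroup.mem_bot] at h10
      have h11 : x' * (⟨d, hdL⟩ : L) = (⟨d, hdL⟩ : L) * x' := by
        have e : (⟨d, hdL⟩ : L)⁻¹ * x'⁻¹ * (⟨d, hdL⟩ : L) * x' = (x' * (⟨d, hdL⟩ : L))⁻¹ * ((⟨d, hdL⟩ : L) * x') := by group
        rw [e] at h10
        exact (inv_mul_eq_one.mp h10)
      exact (congrArg Subtype.val h11).symm
    have h1 : (x' : G) ∈ centralizer (D : Set G) := mem_centralizer_iff.mpr hcomm
    obtain ⟨z, hz, e⟩ := hD.cent h1
    have hzx : z = x' := Subtype.ext e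
    rw [hzx] at hz
    exact hz
  have hS4 : ¬ Cfsg.Involves (Equiv.Perm (Fin 4)) L :=
    not_involves fun hd => C.F.no3 (hd.trans (Subgroup.card_subgroup_dvd_card L))
  have hcl : ∀ a ∈ (S : Subgroup L), ∀ b ∈ (S : Subgroup L), ∀ c ∈ (S : Subgroup L), ⁅⁅a, b⁆, c⁆ = 1 := by
    intro a ha b hb c hc
    rw [hS] at ha hb hc
    apply Subtype.ext
    exact C.cl ha hb hc
  have h7 := Cfsg.Agent.Lib.SFourFree.ClassTwoC.normalizer_sup_core' hcon hS4 S hcl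
  have hmem : (⟨x, hx⟩ : L) ∈ normalizer (jOf 2 (S : Subgroup L) : Set L) ⊔ pPrimeCore 2 L := by
    rw [h7]; trivial
  obtain ⟨y', hy', c', hc', e⟩ := mem_sup_of_normal_right.1 hmem
  have hJ : (jOf 2 (T : Subgroup G) : Subgroup G) = (jOf 2 (S : Subgroup L)).map L.subtype := by
    have h1 := jOf_map_of_inf (e := 2) L.subtype (S : Subgroup L) (by
      rw [eq_bot_iff]
      intro z hz0
      have hz : z ∈ L.subtype.ker := hz0.2
      rw [MonoidHom.mem_ker] at hz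
      exact Subgroup.mem_bot.mpr (L.subtype_injective (by rw [hz, map_one])))
    rw [h1, hS, Subgroup.subgroupOf_map_subtype, inf_eq_left.mpr hTL]
  have hyN : (y' : G) ∈ normalizer ((jOf 2 (T : Subgroup G) : Subgroup G) : Set G) := by
    apply mem_normalizer_of_conj
    intro j hj
    rw [hJ] at hj ⊢
    obtain ⟨j', hj', rfl⟩ := hj
    exact ⟨y' * j' * (y' : L)⁻¹, (mem_normalizer_iff.mp hy' _).mp hj', rfl⟩
  obtain ⟨k, hk, hkprop⟩ := C.step_J hyN
  refine ⟨k, hk, ?_⟩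
  intro a ha
  have hyL : ((y' : L) : G) ∈ L := (y' : L).2
  have hyD : ((y' : L) : G)⁻¹ * a * (y' : L) ∈ D := by
    have h1 := (mem_normalizer_iff.mp (inv_mem hyL) a).mp ha
    simpa using h1
  have h1 := hkprop a (hDT ha) (hDT hyD)
  set c₀ : G := ((y' : L) : G) * (c' : G) * ((y' : L) : G)⁻¹ with hc₀
  have hc₀S : c₀ ∈ oddOf L := oddOf_conj L hyL ⟨c', hc', rfl⟩
  have hxe : x = c₀ * (y' : L) := by
    have h3 : ((y' : L) : G) * (c' : G) = x := congrArg Subtype.val e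
    rw [hc₀, ← h3]
    group
  have h2 := d3 c₀ hc₀S a ha
  rw [← h1, hxe]
  calc (c₀ * ((y' : L) : G))⁻¹ * a * (c₀ * (y' : L)) = ((y' : L) : G)⁻¹ * (c₀⁻¹ * (a * c₀)) * (y' : L) := by group
    _ = ((y' : L) : G)⁻¹ * (c₀⁻¹ * (c₀ * a)) * (y' : L) := by rw [h2]
    _ = ((y' : L) : G)⁻¹ * a * (y' : L) := by group

theorem CaseC.reach (C : CaseC φ T) {A : Set G} {g : G} (h : Reach (StG T) DomG A g) :
    ∃ k ∈ normalizer ((T : Subgroup G) : Set G), ∀ a ∈ A, g⁻¹ * a * g = k⁻¹ * a * k := by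
  obtain ⟨L, hL, rfl⟩ := h
  induction L generalizing A with
  | nil =>
    exact ⟨1, one_mem _, by simp⟩
  | cons c L ih =>
    obtain ⟨hSt, hsub, hrest⟩ := hL
    obtain ⟨k₁, hk₁, h₁⟩ := C.good_step hSt.1 hSt.2
    obtain ⟨k₂, hk₂, h₂⟩ := ih hrest
    refine ⟨k₁ * k₂, mul_mem hk₁ hk₂, ?_⟩
    intro a ha
    have ha' : c.2⁻¹ * a * c.2 ∈ conjSet c.2 A := ⟨a, ha, rfl⟩
    have h3 := h₂ _ ha'
    have h4 := h₁ a (hsub ha)
    simp only [List.map_cons, List.prod_cons]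
    calc (c.2 * (List.map Prod.snd L).prod)⁻¹ * a * (c.2 * (List.map Prod.snd L).prod)
        = (List.map Prod.snd L).prod⁻¹ * (c.2⁻¹ * a * c.2) * (List.map Prod.snd L).prod := by group
      _ = k₂⁻¹ * (c.2⁻¹ * a * c.2) * k₂ := h3
      _ = k₂⁻¹ * (k₁⁻¹ * a * k₁) * k₂ := by rw [h4]
      _ = (k₁ * k₂)⁻¹ * a * (k₁ * k₂) := by group

/-- **Fusion control**: `N(T)` controls fusion in `T`. -/
theorem CaseC.fusion (C : CaseC φ T) {A : Set G} {g : G} (hA : A ⊆ (T : Subgroup G))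
    (hAg : conjSet g A ⊆ (T : Subgroup G)) :
    ∃ k ∈ normalizer ((T : Subgroup G) : Set G), ∀ a ∈ A, g⁻¹ * a * g = k⁻¹ * a * k := by
  obtain ⟨g', hg', hgg⟩ := gr_main (P := T) hA hAg
  obtain ⟨k, hk, h⟩ := C.reach hg'
  exact ⟨k, hk, fun a ha => (hgg a ha).trans (h a ha)⟩

end Cfsg.Agent.Lib.FPS3.Fusion
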