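import Cfsg.Agent.Lib.FPS3.Final

/-!
# Groups of order prime to 3 admitting an automorphism of order 3 with odd fixed points
-/

set_option autoImplicit false
set_option linter.unusedSectionVars false
set_option linter.unusedVariables false

namespace Cfsg.Agent.Lib.FPS3.Main

open Subgroup Cfsg Cfsg.Agent.Lib.FPS3.Basic Cfsg.Agent.Lib.Core.Basic
open Cfsg.Agent.Lib.FPS3.Sub Cfsg.Agent.Lib.FPS3.Fusion Cfsg.Agent.Lib.FPS3.Section
open Cfsg.Agent.Lib.Core.Series

universe u

theorem char_inv {X : Type u} [Group X] [Finite X] {ψ : X →* X} (F : F3 ψ) (K : Subgroup X)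
    [hK : K.Characteristic] : ∀ x ∈ K, ψ x ∈ K := by
  let e : X ≃* X := MulEquiv.ofBijective ψ ⟨F.inj, F.surj⟩
  intro x hx
  have h1 := Subgroup.characteristic_iff_comap_eq.mp hK e.symm
  rw [← h1]
  show e.symm (e x) ∈ K
  simpa using hx

theorem pPrimePCore_eq_of_bot {X : Type u} [Group X] [Finite X] (h : pPrimeCore 2 X = ⊥) :
    pPrimePCore 2 X = pCore 2 X := by
  apply le_antisymm
  · apply le_pCore
    · unfold pPrimePCore
      infer_instance
    · intro x
      obtain ⟨k, hk⟩ := exists_pow_mem_pPrimeCore (p := 2) x.2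
      rw [h, Subgroup.mem_bot] at hk
      exact ⟨k, Subtype.ext hk⟩
  · intro x hx
    exact map_pCore_le_of_surjective _ (QuotientGroup.mk'_surjective _) ⟨x, hx, rfl⟩

theorem card_lt_of_ne_top {X : Type u} [Group X] [Finite X] (Y : Subgroup X) (h : Y ≠ ⊤) :
    Nat.card Y < Nat.card X := by
  have h1 := Subgroup.card_mul_index Y
  have h2 : Y.index ≠ 1 := fun h3 => h (Subgroup.index_eq_one.mp h3)
  have h3 : Y.index ≠ 0 := Subgroup.index_ne_zero_of_finite
  have h4 : 0 < Nat.card Y := Nat.card_pos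
  have h5 : 2 ≤ Y.index := by omega
  rw [← h1]
  nlinarith

theorem card_quot_lt {X : Type u} [Group X] [Finite X] (N : Subgroup X) [N.Normal] (h : N ≠ ⊥) :
    Nat.card (X ⧸ N) < Nat.card X := by
  have h1 := Subgroup.card_eq_card_quotient_mul_card_subgroup N
  have h2 : Nat.card N ≠ 1 := fun h3 => h (Subgroup.eq_bot_of_card_eq _ h3)
  have h3 : 0 < Nat.card N := Nat.card_pos
  have h4 : 0 < Nat.card (X ⧸ N) := Nat.card_pos
  have h5 : 2 ≤ Nat.card N := by omega
  rw [h1]
  nlinarith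

/-- The main induction. -/
theorem main_aux (hFT : ∀ (H : Type u) [Group H] [Finite H], Odd (Nat.card H) → Group.IsSolvable H)
    (n : ℕ) : ∀ (G : Type u) [Group G] [Finite G] (φ : G →* G), F3 φ → Nat.card G = n →
      ¬ 2 ∣ (pPrimePCore 2 G).index := by
  induction n using Nat.strong_induction_on with
  | _ n ih =>
    intro G _ _ φ hF hn
    by_cases hO : pPrimeCore 2 G = ⊥
    swap
    · have hOφ := char_inv hF (pPrimeCore 2 G)
      have hcard : Nat.card (G ⧸ pPrimeCore 2 G) < n := by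
        rw [← hn]; exact card_quot_lt _ hO
      have h1 := ih _ hcard (G ⧸ pPrimeCore 2 G) (quotHom φ _ hOφ) (hF.quot _ hOφ) rfl
      have h2 : pPrimeCore 2 (G ⧸ pPrimeCore 2 G) = ⊥ := pPrimeCore_quotient_eq_bot
      rw [pPrimePCore_eq_of_bot h2] at h1
      have h3 : (pPrimePCore 2 G).index = (pCore 2 (G ⧸ pPrimeCore 2 G)).index :=
        Subgroup.index_comap_of_surjective _ (QuotientGroup.mk'_surjective _)
      rwa [h3]
    rw [pPrimePCore_eq_of_bot hO]
    obtain ⟨T, hTφ⟩ := hF.exists_sylow 2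
    by_cases hT : (T : Subgroup G) = ⊥
    · intro hd
      apply T.not_dvd_index
      rw [hT, Subgroup.index_bot]
      exact hd.trans (Subgroup.index_dvd_card _)
    by_cases hQ : pCore 2 G = ⊥
    · exfalso
      refine CaseC.false (φ := φ) (T := T) ⟨hF, hTφ, hO, hQ, hT, ?_⟩ hFT
      intro X hXφ hXne
      exact ih _ (by rw [← hn]; exact card_lt_of_ne_top X hXne) X (resHom φ X hXφ) (hF.res X hXφ) rfl
    -- `O₂(G) ≠ 1`
    have hQφ := char_inv hF (pCore 2 G)
    let f : G →* G ⧸ pCore 2 G := QuotientGroup.mk' (pCore 2 G)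
    have hfs : Function.Surjective f := QuotientGroup.mk'_surjective _
    let ψ := quotHom φ (pCore 2 G) hQφ
    have hF' : F3 ψ := hF.quot _ hQφ
    have hfψ : ∀ x, f (φ x) = ψ (f x) := fun x => rfl
    have hcard : Nat.card (G ⧸ pCore 2 G) < n := by
      rw [← hn]; exact card_quot_lt _ hQ
    have hI := ih _ hcard (G ⧸ pCore 2 G) ψ hF' rfl
    let M : Subgroup G := (pPrimeCore 2 (G ⧸ pCore 2 G)).comap f
    have hMn : M.Normal := by infer_instance
    have hQM : pCore 2 G ≤ M := by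
      intro x hx
      show f x ∈ pPrimeCore 2 (G ⧸ pCore 2 G)
      have : f x = 1 := (QuotientGroup.eq_one_iff _).mpr hx
      rw [this]; exact one_mem _
    have hMφ : ∀ x ∈ M, φ x ∈ M := by
      intro x hx
      show f (φ x) ∈ pPrimeCore 2 (G ⧸ pCore 2 G)
      rw [hfψ]
      exact char_inv hF' _ _ hx
    have hodd : ¬ 2 ∣ (pCore 2 G).relIndex M := by
      have h1 : (pCore 2 G).relIndex M = Nat.card (M.map f) := by
        have h2 := Subgroup.relIndex_ker (f := f) M
        rwa [QuotientGroup.ker_mk'] at h2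
      have h3 : M.map f = pPrimeCore 2 (G ⧸ pCore 2 G) :=
        Subgroup.map_comap_eq_self_of_surjective hfs _
      rw [h1, h3]
      exact (Nat.Prime.coprime_iff_not_dvd Nat.prime_two).mp
        (pPrimeCore_coprime (p := 2) (G := G ⧸ pCore 2 G)).symm
    have hsec := fun m (hm : m ∈ M) =>
      section_trivial hF (pCore 2 G) M pCore_isPGroup hQφ hMφ hQM hodd hO m hm
    have hψM : ∀ y ∈ pPrimeCore 2 (G ⧸ pCore 2 G), ψ y = y := by
      intro y hy
      obtain ⟨m, rfl⟩ := hfs y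
      have h1 := hsec m hy
      have h2 : f (m⁻¹ * φ m) = 1 := (QuotientGroup.eq_one_iff _).mpr h1
      rw [map_mul, map_inv, inv_mul_eq_one] at h2
      rw [← hfψ, ← h2]
    have hTQ : (T : Subgroup G) ≤ pCore 2 G := by
      intro t ht
      set u : G := t⁻¹ * φ t with hu
      have huT : u ∈ (T : Subgroup G) := mul_mem (inv_mem ht) (hTφ _ ht)
      obtain ⟨j, hj⟩ := two_elt T huT
      have hucomm : ∀ m ∈ pPrimeCore 2 (G ⧸ pCore 2 G), m * f u = f u * m := by
        intro m hm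
        have h1 : f t * m * (f t)⁻¹ ∈ pPrimeCore 2 (G ⧸ pCore 2 G) :=
          (inferInstance : (pPrimeCore 2 (G ⧸ pCore 2 G)).Normal).conj_mem _ hm _
        have h2 := hψM _ h1
        rw [map_mul, map_mul, map_inv, hψM m hm, ← hfψ] at h2
        rw [hu, map_mul, map_inv]
        -- `f (φ t) m (f (φ t))⁻¹ = f t m (f t)⁻¹`
        calc m * ((f t)⁻¹ * f (φ t)) = (f t)⁻¹ * (f t * m * (f t)⁻¹) * f (φ t) := by group
          _ = (f t)⁻¹ * (f (φ t) * m * (f (φ t))⁻¹) * f (φ t) := by rw [h2]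
          _ = (f t)⁻¹ * f (φ t) * m := by group
      have huPP : f u ∈ pPrimePCore 2 (G ⧸ pCore 2 G) := by
        refine mem_of_two_elt _ hI (j := j) ?_
        rw [← map_pow, hj, map_one]
      set D : Subgroup (G ⧸ pCore 2 G) :=
        pPrimePCore 2 (G ⧸ pCore 2 G) ⊓ centralizer (pPrimeCore 2 (G ⧸ pCore 2 G) : Set (G ⧸ pCore 2 G)) with hD
      have hDn : D.Normal := by
        have h1 : (pPrimePCore 2 (G ⧸ pCore 2 G)).Normal := by
          unfold pPrimePCore
          infer_instance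
        infer_instance
      have hc : ∀ d ∈ D, ∃ k : ℕ, ∀ e ∈ D, d ^ 2 ^ k * e = e * d ^ 2 ^ k := by
        intro d hd
        obtain ⟨k, hk⟩ := exists_pow_mem_pPrimeCore (p := 2) hd.1
        exact ⟨k, fun e he => mem_centralizer_iff.mp he.2 _ hk⟩
      have huD : f u ∈ D := ⟨huPP, mem_centralizer_iff.mpr hucomm⟩
      have hu1 : f u = 1 := two_elt_mem_core D hDn hc pCore_quotient_eq_bot huD (j := j)
        (by rw [← map_pow, hj, map_one])
      have huQ : u ∈ pCore 2 G := (QuotientGroup.eq_one_iff _).mp hu1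
      obtain ⟨y, hy, hty⟩ := hF.exists_fixed_coset _ hQφ t huQ
      have hyT : y ∈ (T : Subgroup G) := by
        have h1 : t⁻¹ * y ∈ (T : Subgroup G) := pCore_le_sylow T hty
        have e : y = t * (t⁻¹ * y) := by group
        rw [e]
        exact mul_mem ht h1
      obtain ⟨i, hi⟩ := two_elt T hyT
      have hy1 : y = 1 := hF.eq_one_of_fixed hy hi
      rw [hy1, mul_one] at hty
      simpa using hty
    intro hd
    exact T.not_dvd_index (hd.trans (Subgroup.index_dvd_of_le hTQ))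

/-- **Main theorem**, `O_{2',2}(G)` has odd index. -/
theorem main_index (hFT : ∀ (H : Type u) [Group H] [Finite H], Odd (Nat.card H) → Group.IsSolvable H)
    {G : Type u} [Group G] [Finite G] {φ : G →* G} (hF : F3 φ) : ¬ 2 ∣ (pPrimePCore 2 G).index :=
  main_aux hFT _ G φ hF rfl

/-- `G` is solvable. -/
theorem main_solvable (hFT : ∀ (H : Type u) [Group H] [Finite H], Odd (Nat.card H) → Group.IsSolvable H)
    {G : Type u} [Group G] [Finite G] {φ : G →* G} (hF : F3 φ) : Group.IsSolvable G := by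
  have hI := main_index hFT hF
  -- `G / O(G)`
  have hQodd : ¬ 2 ∣ (pCore 2 (G ⧸ pPrimeCore 2 G)).index := by
    have h3 : (pPrimePCore 2 G).index = (pCore 2 (G ⧸ pPrimeCore 2 G)).index :=
      Subgroup.index_comap_of_surjective _ (QuotientGroup.mk'_surjective _)
    rwa [← h3]
  have hS1 : Group.IsSolvable ((G ⧸ pPrimeCore 2 G) ⧸ pCore 2 (G ⧸ pPrimeCore 2 G)) :=
    hFT _ (Nat.odd_iff.mpr (by
      have : ¬ 2 ∣ Nat.card ((G ⧸ pPrimeCore 2 G) ⧸ pCore 2 (G ⧸ pPrimeCore 2 G)) := hQodd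
      omega))
  have hP : IsPGroup 2 (pCore 2 (G ⧸ pPrimeCore 2 G)) := pCore_isPGroup
  haveI hN : Group.IsNilpotent (pCore 2 (G ⧸ pPrimeCore 2 G)) := hP.isNilpotent
  have hS2 : Group.IsSolvable (pCore 2 (G ⧸ pPrimeCore 2 G)) := inferInstance
  have hS3 : Group.IsSolvable (G ⧸ pPrimeCore 2 G) :=
    Group.isSolvable_of_ker_le_range (pCore 2 (G ⧸ pPrimeCore 2 G)).subtype
      (QuotientGroup.mk' (pCore 2 (G ⧸ pPrimeCore 2 G))) (by
      rw [QuotientGroup.ker_mk', Subgroup.range_subtype])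
  have hS4 : Group.IsSolvable (pPrimeCore 2 G) :=
    hFT _ (Nat.odd_iff.mpr (by
      have : ¬ 2 ∣ Nat.card (pPrimeCore 2 G) :=
        (Nat.Prime.coprime_iff_not_dvd Nat.prime_two).mp (pPrimeCore_coprime (p := 2) (G := G)).symm
      omega))
  exact Group.isSolvable_of_ker_le_range (pPrimeCore 2 G).subtype (QuotientGroup.mk' (pPrimeCore 2 G)) (by
    rw [QuotientGroup.ker_mk', Subgroup.range_subtype])

/-- `φ` is trivial on `G / O_{2',2}(G)`, so `G = O_{2',2}(G) C_G(φ)`. -/
theorem main_sup (hFT : ∀ (H : Type u) [Group H] [Finite H], Odd (Nat.card H) → Group.IsSolvable H)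
    {G : Type u} [Group G] [Finite G] {φ : G →* G} (hF : F3 φ) :
    pPrimePCore 2 G ⊔ Subgroup.closure {g : G | φ g = g} = ⊤ := by
  have hI := main_index hFT hF
  have hOφ := char_inv hF (pPrimeCore 2 G)
  let f : G →* G ⧸ pPrimeCore 2 G := QuotientGroup.mk' (pPrimeCore 2 G)
  let ψ := quotHom φ (pPrimeCore 2 G) hOφ
  have hF' : F3 ψ := hF.quot _ hOφ
  have hO' : pPrimeCore 2 (G ⧸ pPrimeCore 2 G) = ⊥ := pPrimeCore_quotient_eq_bot
  have hQφ := char_inv hF' (pCore 2 (G ⧸ pPrimeCore 2 G))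
  have h3 : (pPrimePCore 2 G).index = (pCore 2 (G ⧸ pPrimeCore 2 G)).index :=
    Subgroup.index_comap_of_surjective _ (QuotientGroup.mk'_surjective _)
  have hodd : ¬ 2 ∣ (pCore 2 (G ⧸ pPrimeCore 2 G)).relIndex ⊤ := by
    rw [Subgroup.relIndex_top_right, ← h3]
    exact hI
  have hsec : ∀ g : G, g⁻¹ * φ g ∈ pPrimePCore 2 G := by
    intro g
    have h1 := section_trivial hF' (pCore 2 (G ⧸ pPrimeCore 2 G)) ⊤ pCore_isPGroup hQφ
      (fun _ _ => mem_top _) le_top hodd hO' (f g) (mem_top _)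
    exact h1
  have hKφ : ∀ x ∈ pPrimePCore 2 G, φ x ∈ pPrimePCore 2 G := by
    intro x hx
    exact hQφ _ hx
  rw [eq_top_iff]
  intro g _
  obtain ⟨y, hy, hgy⟩ := hF.exists_fixed_coset _ hKφ g (hsec g)
  have hKn : (pPrimePCore 2 G).Normal := by
    unfold pPrimePCore
    infer_instance
  have h4 : g * y⁻¹ ∈ pPrimePCore 2 G := by
    have h5 := hKn.conj_mem _ (inv_mem hgy) g
    have e : g * (g⁻¹ * y)⁻¹ * g⁻¹ = g * y⁻¹ := by group
    rwa [e] at h5
  have e : g = (g * y⁻¹) * y := by group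
  rw [e]
  exact Subgroup.mul_mem_sup h4 (Subgroup.subset_closure hy)

end Cfsg.Agent.Lib.FPS3.Main
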