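import Cfsg.Agent.Lib.FPS3.ZLayer
import Cfsg.Agent.S0215

/-!
# Centralizers of involutions of `Z`
-/

set_option autoImplicit false
set_option linter.unusedSectionVars false
set_option linter.unusedVariables false

namespace Cfsg.Agent.Lib.FPS3.Fusion

open Subgroup Cfsg Cfsg.Agent.Lib.FPS3.Basic Cfsg.Agent.Lib.Core.Basic
open Cfsg.Agent.Lib.PLocal.Alperin Cfsg.Agent.Lib.FPS3.Sub

universe u

variable {G : Type u} [Group G] [Finite G] {φ : G →* G} {T : Sylow 2 G}

theorem odd_sup {Y : Type*} [Group Y] [Finite Y] (A B : Subgroup Y) [A.Normal]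
    (hA : ¬ 2 ∣ Nat.card A) (hB : ¬ 2 ∣ Nat.card B) : ¬ 2 ∣ Nat.card ↥(A ⊔ B) := by
  have h1 : (⊥ : Subgroup Y).relIndex A * A.relIndex (A ⊔ B) = (⊥ : Subgroup Y).relIndex (A ⊔ B) :=
    Subgroup.relIndex_mul_relIndex _ _ _ bot_le le_sup_left
  rw [Subgroup.relIndex_bot_left, Subgroup.relIndex_bot_left, Subgroup.relIndex_sup_left] at h1
  rw [← h1]
  intro hd
  rcases (Nat.Prime.dvd_mul Nat.prime_two).mp hd with h2 | h2
  · exact hA h2
  · exact hB (h2.trans (Subgroup.relIndex_dvd_card _ _))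

theorem CaseC.star (C : CaseC φ T) {w : G} (hw : w ∈ Zof T) (hw1 : w ≠ 1) {y : G}
    (hy : y ∈ centralizer ({w} : Set G)) :
    ∃ b ∈ oddOf (centralizer ({w} : Set G)), ∃ k ∈ normalizer ((T : Subgroup G) : Set G),
      k ∈ centralizer ({w} : Set G) ∧ y = b * k := by
  classical
  set Y : Subgroup G := centralizer ({w} : Set G) with hY
  set v : G := φ w with hv
  have hvZ : v ∈ Zof T := C.Z_φ hw
  have hmemY : ∀ g, g ∈ Y ↔ g * w = w * g := fun g => Subgroup.mem_centralizer_singleton_iff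
  have hTY : (T : Subgroup G) ≤ Y := fun t ht => (hmemY t).mpr (hw.2.1 t ht)
  let P : Sylow 2 Y := T.subtype hTY
  have hP : (P : Subgroup Y) = (T : Subgroup G).subgroupOf Y := Sylow.coe_subtype T hTY
  let u : Y := ⟨v, hTY hvZ.1⟩
  have hu2 : u * u = 1 := Subtype.ext hvZ.2.2
  have hv1 : v ≠ 1 := by
    intro h
    apply hw1
    apply C.F.inj
    rw [map_one]
    exact h
  have hu1 : u ≠ 1 := fun h => hv1 (congrArg Subtype.val h)
  have hu : orderOf u = 2 := orderOf_eq_prime (by rw [pow_two]; exact hu2) hu1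
  have huP : u ∈ P := by
    show u ∈ (P : Subgroup Y)
    rw [hP]
    exact hvZ.1
  have hiso : ∀ g : Y, g * u * g⁻¹ ∈ P → g * u * g⁻¹ = u := by
    intro g hg
    have hg' : (g : G) * v * (g : G)⁻¹ ∈ (T : Subgroup G) := by
      have h1 : g * u * g⁻¹ ∈ (P : Subgroup Y) := hg
      rw [hP] at h1
      exact h1
    have hgw : (g : G) * w * (g : G)⁻¹ = w := by
      rw [(hmemY _).mp g.2]; group
    obtain ⟨k, hk, hk2⟩ := C.fusion (A := {w, v}) (g := (g : G)⁻¹) (by
      rintro _ (rfl | rfl)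
      · exact hw.1
      · exact hvZ.1) (by
      rintro _ ⟨a, (rfl | rfl), rfl⟩
      · simp only [inv_inv]
        rw [hgw]
        exact hw.1
      · have e : (g : G)⁻¹⁻¹ * v * (g : G)⁻¹ = (g : G) * v * (g : G)⁻¹ := by rw [inv_inv]
        show (g : G)⁻¹⁻¹ * v * (g : G)⁻¹ ∈ (T : Subgroup G)
        rw [e]
        exact hg')
    have h1 := hk2 w (Set.mem_insert _ _)
    have h2 := hk2 v (Set.mem_insert_of_mem _ rfl)
    simp only [inv_inv] at h1 h2
    rw [hgw] at h1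
    have h3 : k⁻¹ * φ w * k⁻¹⁻¹ = φ w := C.comm_φ (inv_mem hk) hw (by rw [inv_inv]; exact h1.symm)
    apply Subtype.ext
    show (g : G) * v * (g : G)⁻¹ = v
    rw [h2]
    simpa using h3
  obtain ⟨N, hNn, hNo, hN⟩ := Cfsg.Agent.S0215.result P u hu huP hiso
  have hNO : N ≤ pPrimeCore 2 Y := by
    apply le_pPrimeCore hNn
    exact Nat.coprime_two_right.mpr hNo
  have hOodd : ¬ 2 ∣ Nat.card (pPrimeCore 2 Y) :=
    (Nat.Prime.coprime_iff_not_dvd Nat.prime_two).mp (pPrimeCore_coprime (p := 2) (G := Y)).symm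
  have hdec : ∀ g : Y, ∃ n ∈ pPrimeCore 2 Y, ∃ c : Y, g = n * c ∧ c * u = u * c := fun g =>
    exists_mul_centralizer inferInstance hOodd hu2 (hNO (hN g))
  set X : Subgroup G := Y ⊓ centralizer ({v} : Set G) with hX
  have hmemX : ∀ g, g ∈ X ↔ g * w = w * g ∧ g * v = v * g := fun g =>
    ⟨fun h => ⟨(hmemY g).mp h.1, Subgroup.mem_centralizer_singleton_iff.mp h.2⟩,
      fun h => ⟨(hmemY g).mpr h.1, Subgroup.mem_centralizer_singleton_iff.mpr h.2⟩⟩
  have hcyc := C.cyc hw.1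
  have hXφ : ∀ x ∈ X, φ x ∈ X := by
    intro x hx
    obtain ⟨h1, h2⟩ := (hmemX x).mp hx
    rw [hmemX]
    constructor
    · -- `x` commutes with `φ (φ w)`, the inverse of `w * v`
      have h3 : φ (φ w) = (w * v)⁻¹ := eq_inv_of_mul_eq_one_right hcyc
      have h4 : x * φ (φ w) = φ (φ w) * x := by
        rw [h3]
        have h5 : x * (w * v) = (w * v) * x := by
          rw [← mul_assoc, h1, mul_assoc, h2, mul_assoc]
        calc x * (w * v)⁻¹ = (w * v)⁻¹ * ((w * v) * x) * (w * v)⁻¹ := by group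
          _ = (w * v)⁻¹ * (x * (w * v)) * (w * v)⁻¹ := by rw [h5]
          _ = (w * v)⁻¹ * x := by group
      have h6 := congrArg φ h4
      simpa only [map_mul, C.F.cube] using h6
    · have h6 := congrArg φ h1
      simpa only [map_mul] using h6
  have hXne : X ≠ ⊤ := by
    intro h
    have h1 : ∀ g, g * w = w * g := fun g => ((hmemX g).mp (by rw [h]; trivial)).1
    obtain ⟨j, hj⟩ := two_elt T hw.1
    exact hw1 (eq_one_of_central C.two h1 hj)
  have hTX : (T : Subgroup G) ≤ X := fun t ht => (hmemX t).mpr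
    ⟨hw.2.1 t ht, hvZ.2.1 t ht⟩
  have hI := C.ih X hXφ hXne
  have hXc : ∀ c : Y, c * u = u * c → (c : G) ∈ X := by
    intro c hc
    rw [hmemX]
    exact ⟨(hmemY _).mp c.2, congrArg Subtype.val hc⟩
  have hXY : X ≤ Y := inf_le_left
  have hle : oddOf X ≤ oddOf Y := by
    let B' : Subgroup Y := (oddOf X).subgroupOf Y
    have hB'c : Nat.card B' = Nat.card (oddOf X) :=
      Nat.card_congr (Subgroup.subgroupOfEquivOfLe ((oddOf_le X).trans hXY)).toEquiv
    have hB'odd : ¬ 2 ∣ Nat.card B' := by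
      rw [hB'c]; exact oddOf_odd X
    have hn : (pPrimeCore 2 Y ⊔ B').Normal := by
      constructor
      intro z hz g
      have h1 : pPrimeCore 2 Y ⊔ B' ≤ (pPrimeCore 2 Y ⊔ B').comap (MulAut.conj g).toMonoidHom := by
        refine sup_le ?_ ?_
        · intro a ha
          exact le_sup_left (a := pPrimeCore 2 Y) (b := B')
            ((inferInstance : (pPrimeCore 2 Y).Normal).conj_mem a ha g)
        · intro b hb
          obtain ⟨n, hn, c, e, hc⟩ := hdec g
          have hcb : c * b * c⁻¹ ∈ B' := by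
            show ((c : G) * b * (c : G)⁻¹) ∈ oddOf X
            exact oddOf_conj X (hXc c hc) hb
          show g * b * g⁻¹ ∈ pPrimeCore 2 Y ⊔ B'
          have e2 : g * b * g⁻¹ = n * (c * b * c⁻¹) * n⁻¹ := by rw [e]; group
          rw [e2]
          have h2 : n ∈ pPrimeCore 2 Y ⊔ B' := le_sup_left (a := pPrimeCore 2 Y) (b := B') hn
          exact mul_mem (mul_mem h2 (le_sup_right (a := pPrimeCore 2 Y) (b := B') hcb)) (inv_mem h2)
      exact h1 hz
    have hc := odd_sup (pPrimeCore 2 Y) B' hOodd hB'odd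
    have h2 := le_pPrimeCore hn (p := 2) ((Nat.Prime.coprime_iff_not_dvd Nat.prime_two).mpr hc).symm
    intro b hb
    have hbY : b ∈ Y := hXY (oddOf_le X hb)
    exact ⟨⟨b, hbY⟩, h2 (le_sup_right (a := pPrimeCore 2 Y) (b := B') hb), rfl⟩
  obtain ⟨n, hn, c, e, hc⟩ := hdec ⟨y, hy⟩
  obtain ⟨b', hb', k, hk, hkX, e2⟩ := ih_sub T X hTX hI (hXc c hc)
  refine ⟨n * b', mul_mem ⟨n, hn, rfl⟩ (hle hb'), k, hk, hXY hkX, ?_⟩
  have e3 : y = (n : G) * (c : G) := congrArg Subtype.val e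
  rw [e3, e2, mul_assoc]

/-- From a Frattini decomposition to `O_{2',2}` of odd index. -/
theorem index_odd_of_decomp {Y : Type u} [Group Y] [Finite Y] (S : Sylow 2 Y)
    (h : ∀ y : Y, ∃ b ∈ pPrimeCore 2 Y, ∃ k ∈ normalizer ((S : Subgroup Y) : Set Y), y = b * k) :
    ¬ 2 ∣ (pPrimePCore 2 Y).index := by
  have hn : ((S : Subgroup Y).map (QuotientGroup.mk' (pPrimeCore 2 Y))).Normal := by
    constructor
    rintro _ ⟨s, hs, rfl⟩ g
    obtain ⟨y, rfl⟩ := QuotientGroup.mk_surjective g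
    obtain ⟨b, hb, k, hk, rfl⟩ := h y
    refine ⟨k * s * k⁻¹, (mem_normalizer_iff.mp hk s).mp hs, ?_⟩
    have hb1 : ((b : Y) : Y ⧸ pPrimeCore 2 Y) = 1 := (QuotientGroup.eq_one_iff _).mpr hb
    simp only [QuotientGroup.mk'_apply, QuotientGroup.mk_mul, QuotientGroup.mk_inv, hb1, one_mul]
  have h1 := le_pCore hn (S.isPGroup'.map (QuotientGroup.mk' (pPrimeCore 2 Y)))
  have h2 : (S : Subgroup Y) ≤ pPrimePCore 2 Y := by
    intro s hs
    exact h1 ⟨s, hs, rfl⟩
  intro hd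
  exact S.not_dvd_index (hd.trans (Subgroup.index_dvd_of_le h2))

theorem CaseC.star_index (C : CaseC φ T) {w : G} (hw : w ∈ Zof T) (hw1 : w ≠ 1) :
    ¬ 2 ∣ (pPrimePCore 2 ↥(centralizer ({w} : Set G))).index := by
  set Y : Subgroup G := centralizer ({w} : Set G) with hY
  have hTY : (T : Subgroup G) ≤ Y := fun t ht =>
    Subgroup.mem_centralizer_singleton_iff.mpr (hw.2.1 t ht)
  let S : Sylow 2 Y := T.subtype hTY
  have hS : (S : Subgroup Y) = (T : Subgroup G).subgroupOf Y := Sylow.coe_subtype T hTY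
  apply index_odd_of_decomp S
  intro y
  obtain ⟨b, hb, k, hk, hkY, e⟩ := C.star hw hw1 y.2
  obtain ⟨b', hb', rfl⟩ := hb
  refine ⟨b', hb', ⟨k, hkY⟩, ?_, Subtype.ext e⟩
  apply mem_normalizer_of_conj
  intro s hs
  rw [hS] at hs ⊢
  exact (mem_normalizer_iff.mp hk _).mp hs

/-- A subgroup of odd order normalized by a Sylow 2-subgroup lies in `O`, if `O_{2',2}` has odd index. -/
theorem le_core_of_index {Y : Type u} [Group Y] [Finite Y] (S : Sylow 2 Y)
    (hI : ¬ 2 ∣ (pPrimePCore 2 Y).index) (B : Subgroup Y) (hB : ¬ 2 ∣ Nat.card B)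
    (hBS : ∀ t ∈ (S : Subgroup Y), ∀ x ∈ B, t * x * t⁻¹ ∈ B) : B ≤ pPrimeCore 2 Y := by
  set O : Subgroup Y := pPrimeCore 2 Y with hO
  let f : Y →* Y ⧸ O := QuotientGroup.mk' O
  have hf : Function.Surjective f := QuotientGroup.mk'_surjective O
  let Q : Subgroup (Y ⧸ O) := pCore 2 (Y ⧸ O)
  have hQ2 : IsPGroup 2 Q := pCore_isPGroup
  let Sb : Sylow 2 (Y ⧸ O) := S.mapSurjective hf
  have hSb : (Sb : Subgroup (Y ⧸ O)) = (S : Subgroup Y).map f := Sylow.coe_mapSurjective _ _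
  have hO' : pPrimeCore 2 (Y ⧸ O) = ⊥ := pPrimeCore_quotient_eq_bot
  have hodd : ¬ 2 ∣ Q.relIndex ⊤ := by
    rw [Subgroup.relIndex_top_right]
    have h1 : (pPrimePCore 2 Y).index = Q.index := Subgroup.index_comap_of_surjective _ hf
    rwa [← h1]
  have hcen := Cfsg.Agent.Lib.FPS3.Section.centralizer_le Q ⊤ hQ2 le_top hodd hO'
  intro x hx
  rw [← QuotientGroup.eq_one_iff]
  -- the image of `x` centralizes `Q`
  have hxodd : ¬ 2 ∣ orderOf x := fun hd => hB (hd.trans (Subgroup.orderOf_dvd_natCard B hx))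
  have hq1 : ∀ {q : Y ⧸ O}, q ∈ Q → ¬ 2 ∣ orderOf q → q = 1 := by
    intro q hq hq2
    obtain ⟨j, hj⟩ := hQ2 ⟨q, hq⟩
    have h1 : q ^ 2 ^ j = 1 := congrArg Subtype.val hj
    have h2 : orderOf q ∣ 2 ^ j := orderOf_dvd_of_pow_eq_one h1
    obtain ⟨i, hi, hi2⟩ := (Nat.dvd_prime_pow Nat.prime_two).mp h2
    rcases Nat.eq_zero_or_pos i with rfl | hpos
    · rw [pow_zero] at hi2
      exact orderOf_eq_one_iff.mp hi2
    · exact absurd (hi2 ▸ dvd_pow_self 2 hpos.ne') hq2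
  have hc : (x : Y ⧸ O) ∈ centralizer (Q : Set (Y ⧸ O)) := by
    rw [mem_centralizer_iff]
    intro q hq
    have hqS : q ∈ (Sb : Subgroup (Y ⧸ O)) := pCore_le_sylow Sb hq
    rw [hSb] at hqS
    obtain ⟨t, ht, rfl⟩ := hqS
    -- the commutator
    set c : Y := x * t * x⁻¹ * t⁻¹ with hc
    have hcB : c ∈ B := by
      have h1 := hBS t ht _ (inv_mem hx)
      have e : c = x * (t * x⁻¹ * t⁻¹) := by rw [hc]; group
      rw [e]
      exact mul_mem hx h1
    have hcQ : f c ∈ Q := by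
      have h1 : f t ∈ Q := hq
      have hQn : Q.Normal := inferInstance
      have h2 := hQn.conj_mem _ h1 (x : Y ⧸ O)
      have e : f c = ((x : Y ⧸ O) * f t * (x : Y ⧸ O)⁻¹) * (f t)⁻¹ := by
        simp [hc, f]
      rw [e]
      exact mul_mem h2 (inv_mem h1)
    have hcodd : ¬ 2 ∣ orderOf (f c) := fun hd =>
      hB ((hd.trans (orderOf_map_dvd f c)).trans (Subgroup.orderOf_dvd_natCard B hcB))
    have h3 := hq1 hcQ hcodd
    have h4 : f (x * t * x⁻¹ * t⁻¹) = 1 := h3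
    have h5 : (x : Y ⧸ O) * f t = f t * (x : Y ⧸ O) := by
      have e : f (x * t * x⁻¹ * t⁻¹) = ((x : Y ⧸ O) * f t) * ((f t) * (x : Y ⧸ O))⁻¹ := by
        simp [f, mul_assoc]
        exact (mul_inv_rev _ _).symm
      rw [e] at h4
      exact mul_inv_eq_one.mp h4
    exact h5.symm
  have h1 : (x : Y ⧸ O) ∈ Q := hcen ⟨mem_top _, hc⟩
  exact hq1 h1 (fun hd => hxodd (hd.trans (orderOf_map_dvd f x)))

/-- The function `θ`. -/
noncomputable def thetaOf (z : G) : Subgroup G := oddOf (centralizer ({z} : Set G))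

/-- Balance. -/
theorem CaseC.balance (C : CaseC φ T) {a b : G} (ha : a ∈ Zof T) (hb : b ∈ Zof T) (hb1 : b ≠ 1) :
    thetaOf a ⊓ centralizer ({b} : Set G) ≤ thetaOf b := by
  set Y : Subgroup G := centralizer ({b} : Set G) with hY
  have hTY : (T : Subgroup G) ≤ Y := fun t ht =>
    Subgroup.mem_centralizer_singleton_iff.mpr (hb.2.1 t ht)
  have hTa : (T : Subgroup G) ≤ centralizer ({a} : Set G) := fun t ht =>
    Subgroup.mem_centralizer_singleton_iff.mpr (ha.2.1 t ht)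
  let S : Sylow 2 Y := T.subtype hTY
  have hS : (S : Subgroup Y) = (T : Subgroup G).subgroupOf Y := Sylow.coe_subtype T hTY
  let B : Subgroup Y := (thetaOf a ⊓ Y).subgroupOf Y
  have hBc : Nat.card B ∣ Nat.card (thetaOf a) := by
    have h1 : Nat.card B = Nat.card ↥(thetaOf a ⊓ Y) :=
      Nat.card_congr (Subgroup.subgroupOfEquivOfLe inf_le_right).toEquiv
    rw [h1]
    exact Subgroup.card_dvd_of_le inf_le_left
  have h1 := le_core_of_index S (C.star_index hb hb1) B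
    (fun hd => oddOf_odd _ (hd.trans hBc)) (by
      intro t ht x hx
      rw [hS] at ht
      refine ⟨oddOf_conj _ (hTa ht) hx.1, ?_⟩
      exact (t * x * t⁻¹).2)
  intro x hx
  exact ⟨⟨x, hx.2⟩, h1 hx, rfl⟩

end Cfsg.Agent.Lib.FPS3.Fusion
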