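import Cfsg.Agent.Lib.FPS3.Fusion

/-!
# The subgroup `Ω₁ Z(T)` in the minimal counterexample
-/

set_option autoImplicit false
set_option linter.unusedSectionVars false
set_option linter.unusedVariables false

namespace Cfsg.Agent.Lib.FPS3.Fusion

open Subgroup Cfsg Cfsg.Agent.Lib.FPS3.Basic Cfsg.Agent.Lib.Core.Basic
open Cfsg.Agent.Lib.PLocal.Alperin Cfsg.Agent.Lib.FPS3.Sub Cfsg.Agent.Lib.FPS3.Fusion

universe u

variable {G : Type u} [Group G] [Finite G] {φ : G →* G} {T : Sylow 2 G}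

/-- `Ω₁ Z(T)`. -/
def Zof (T : Sylow 2 G) : Subgroup G where
  carrier := {z | z ∈ (T : Subgroup G) ∧ (∀ t ∈ (T : Subgroup G), t * z = z * t) ∧ z * z = 1}
  mul_mem' := by
    rintro a b ⟨ha, ha2, ha3⟩ ⟨hb, hb2, hb3⟩
    refine ⟨mul_mem ha hb, ?_, ?_⟩
    · intro t ht
      rw [← mul_assoc, ha2 t ht, mul_assoc, hb2 t ht, mul_assoc]
    · calc a * b * (a * b) = a * (b * a) * b := by group
        _ = a * (a * b) * b := by rw [hb2 a ha]
        _ = (a * a) * (b * b) := by group
        _ = 1 := by rw [ha3, hb3, one_mul]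
  one_mem' := ⟨one_mem _, by simp, by simp⟩
  inv_mem' := by
    rintro a ⟨ha, ha2, ha3⟩
    have e : a⁻¹ = a := inv_eq_of_mul_eq_one_left ha3
    rw [e]
    exact ⟨ha, ha2, ha3⟩

theorem mem_Zof {z : G} : z ∈ Zof T ↔ z ∈ (T : Subgroup G) ∧
    (∀ t ∈ (T : Subgroup G), t * z = z * t) ∧ z * z = 1 := Iff.rfl

theorem Zof_le : Zof T ≤ (T : Subgroup G) := fun _ h => h.1

theorem Zof_comm {a b : G} (ha : a ∈ Zof T) (hb : b ∈ Zof T) : a * b = b * a :=
  (ha.2.1 b hb.1).symm

theorem Zof_conj {k z : G} (hk : k ∈ normalizer ((T : Subgroup G) : Set G)) (hz : z ∈ Zof T) :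
    k * z * k⁻¹ ∈ Zof T := by
  obtain ⟨h1, h2, h3⟩ := hz
  refine ⟨(mem_normalizer_iff.mp hk z).mp h1, ?_, ?_⟩
  · intro t ht
    have h4 : k⁻¹ * t * k ∈ (T : Subgroup G) := by
      have := (mem_normalizer_iff.mp (inv_mem hk) t).mp ht
      simpa using this
    have h5 := h2 _ h4
    calc t * (k * z * k⁻¹) = k * ((k⁻¹ * t * k) * z) * k⁻¹ := by group
      _ = k * (z * (k⁻¹ * t * k)) * k⁻¹ := by rw [h5]
      _ = k * z * k⁻¹ * t := by group
  · calc k * z * k⁻¹ * (k * z * k⁻¹) = k * (z * z) * k⁻¹ := by group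
      _ = 1 := by rw [h3]; group

theorem CaseC.Z_φ (C : CaseC φ T) {z : G} (hz : z ∈ Zof T) : φ z ∈ Zof T := by
  obtain ⟨h1, h2, h3⟩ := hz
  refine ⟨C.inv _ h1, ?_, ?_⟩
  · intro t ht
    have h4 := h2 _ (C.inv' ht)
    have h5 := congrArg φ h4
    simpa only [map_mul, C.F.cube] using h5
  · rw [← map_mul, h3, map_one]

theorem CaseC.N_φ (C : CaseC φ T) {k : G} (hk : k ∈ normalizer ((T : Subgroup G) : Set G)) :
    φ k ∈ normalizer ((T : Subgroup G) : Set G) := by
  apply mem_normalizer_of_conj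
  intro t ht
  have h1 := (mem_normalizer_iff.mp hk _).mp (C.inv' ht)
  have h2 := C.inv _ h1
  simpa only [map_mul, map_inv, C.F.cube] using h2

/-- Fixed points in `T` are trivial. -/
theorem CaseC.fpf (C : CaseC φ T) {t : G} (ht : t ∈ (T : Subgroup G)) (h : φ t = t) : t = 1 := by
  obtain ⟨j, hj⟩ := two_elt T ht
  exact C.F.eq_one_of_fixed h hj

theorem CaseC.cyc (C : CaseC φ T) {t : G} (ht : t ∈ (T : Subgroup G)) : t * φ t * φ (φ t) = 1 := by
  have h1 := Cfsg.Agent.Lib.FPS3.ClassTwo.cyc (C.F.res T C.inv) T.isPGroup' ⟨t, ht⟩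
  exact congrArg Subtype.val h1

/-- `Z` is strongly closed. -/
theorem CaseC.strong (C : CaseC φ T) {z g : G} (hz : z ∈ Zof T) (h : g⁻¹ * z * g ∈ (T : Subgroup G)) :
    g⁻¹ * z * g ∈ Zof T := by
  obtain ⟨k, hk, hk2⟩ := C.fusion (A := {z}) (g := g) (Set.singleton_subset_iff.mpr hz.1) (by
    rintro _ ⟨a, rfl, rfl⟩
    exact h)
  rw [hk2 z rfl]
  have h1 := Zof_conj (inv_mem hk) hz
  simpa using h1

/-- `φ` is trivial modulo the kernel of the action of `N(T)` on `Z`. -/
theorem CaseC.bridge_Z (C : CaseC φ T) {k z : G} (hk : k ∈ normalizer ((T : Subgroup G) : Set G))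
    (hz : z ∈ Zof T) : φ k * z * (φ k)⁻¹ = k * z * k⁻¹ := by
  classical
  let N : Subgroup G := normalizer ((T : Subgroup G) : Set G)
  let Z : Subgroup G := Zof T
  have hV : ∀ v : Z, v * v = 1 := fun v => Subtype.ext v.2.2.2
  have hVc : ∀ a b : Z, a * b = b * a := fun a b => Subtype.ext (Zof_comm a.2 b.2)
  letI : CommGroup Z := { (inferInstance : Group Z) with mul_comm := hVc }
  let s : Z →* Z := resHom φ Z (fun x hx => C.Z_φ hx)
  have hs3 : ∀ v, s (s (s v)) = v := fun v => Subtype.ext (C.F.cube v)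
  have hfix : ∀ v, s v = v → v = 1 := fun v hv =>
    Subtype.ext (C.fpf v.2.1 (congrArg Subtype.val hv))
  let ρ : N →* MulAut Z :=
    { toFun := fun k =>
        { toFun := fun z => ⟨k * z * (k : G)⁻¹, Zof_conj k.2 z.2⟩
          invFun := fun z => ⟨(k : G)⁻¹ * z * k, by
            have := Zof_conj (inv_mem k.2) z.2
            simpa using this⟩
          left_inv := fun z => Subtype.ext (by simp only; group)
          right_inv := fun z => Subtype.ext (by simp only; group)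
          map_mul' := fun a b => Subtype.ext (by
            show (k : G) * (a * b) * (k : G)⁻¹ = ((k : G) * a * (k : G)⁻¹) * ((k : G) * b * (k : G)⁻¹)
            group) }
      map_one' := by
        ext z
        show (1 : G) * z * (1 : G)⁻¹ = z
        simp
      map_mul' := by
        intro a b
        ext z
        show ((a : G) * b) * z * ((a : G) * b)⁻¹ = (a : G) * ((b : G) * z * (b : G)⁻¹) * (a : G)⁻¹
        group }
  let φK : N →* N := resHom φ N (fun x hx => C.N_φ hx)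
  have hcompat : ∀ k v, s (ρ k v) = ρ (φK k) (s v) := by
    intro k v
    apply Subtype.ext
    show φ ((k : G) * v * (k : G)⁻¹) = φ k * φ v * (φ k)⁻¹
    simp only [map_mul, map_inv]
  have hker : (T : Subgroup G).subgroupOf N ≤ ρ.ker := by
    intro t ht
    rw [MonoidHom.mem_ker]
    ext z
    show (t : G) * z * (t : G)⁻¹ = z
    have h1 := z.2.2.1 t ht
    rw [h1]; group
  have hTN : (T : Subgroup G) ≤ N := Subgroup.le_normalizer
  have hR2 : ¬ 2 ∣ Nat.card ρ.range := by
    rw [← Subgroup.index_ker]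
    intro hd
    have h1 : ρ.ker.index ∣ ((T : Subgroup G).subgroupOf N).index := Subgroup.index_dvd_of_le hker
    have h2 : (T : Subgroup G).relIndex N * N.index = (T : Subgroup G).index :=
      Subgroup.relIndex_mul_index hTN
    apply T.not_dvd_index
    rw [← h2]
    exact Dvd.dvd.mul_right (hd.trans h1) _
  have hR3 : ¬ 3 ∣ Nat.card ρ.range := by
    rw [← Subgroup.index_ker]
    intro hd
    apply C.F.no3
    exact hd.trans ((Subgroup.index_dvd_card _).trans (Subgroup.card_subgroup_dvd_card N))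
  have h := Cfsg.Agent.Lib.FPS3.Omega.bridge hV s hs3 hfix ρ φK hcompat hR2 hR3 ⟨k, hk⟩ ⟨z, hz⟩
  exact congrArg Subtype.val h

/-- `S4`: if `k ∈ N(T)` centralizes `z ∈ Z`, then it centralizes `φ z`. -/
theorem CaseC.comm_φ (C : CaseC φ T) {k z : G} (hk : k ∈ normalizer ((T : Subgroup G) : Set G))
    (hz : z ∈ Zof T) (h : k * z * k⁻¹ = z) : k * φ z * k⁻¹ = φ z := by
  have hk0 : φ (φ k) ∈ normalizer ((T : Subgroup G) : Set G) := C.N_φ (C.N_φ hk)
  have h1 := C.bridge_Z hk0 hz
  rw [C.F.cube, h] at h1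
  have h2 := congrArg φ h1
  simpa only [map_mul, map_inv, C.F.cube] using h2.symm

/-- An involution is not conjugate to its image under `φ`. -/
theorem not_conj (F : F3 φ) {x g : G} (hx : x ≠ 1) (hx2 : x * x = 1) (hg : g⁻¹ * x * g = φ x) :
    False := by
  classical
  let α := MulAction.orbit (ConjAct G) x
  have hmem : ∀ y : G, y ∈ α ↔ IsConj y x := fun y => ConjAct.mem_orbit_conjAct
  have hconj : IsConj (φ x) x := by
    rw [isConj_iff]
    exact ⟨g, by rw [← hg]; group⟩
  let f : α → α := fun y => ⟨φ y, by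
    rw [hmem]
    have h1 : IsConj (y : G) x := (hmem _).mp y.2
    have h2 : IsConj (φ y) (φ x) := by
      obtain ⟨c, hc⟩ := isConj_iff.mp h1
      rw [isConj_iff]
      exact ⟨φ c, by rw [← map_inv, ← map_mul, ← map_mul, hc]⟩
    exact h2.trans hconj⟩
  have hf : ∀ y, f (f (f y)) = y := fun y => Subtype.ext (F.cube y)
  have hcard : Nat.card α ∣ Nat.card G := by
    have h1 := MulAction.index_stabilizer (ConjAct G) x
    rw [Nat.card_coe_set_eq]
    show (MulAction.orbit (ConjAct G) x).ncard ∣ Nat.card (ConjAct G)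
    rw [← h1]
    exact Subgroup.index_dvd_card _
  obtain ⟨y, hy⟩ := exists_fixed_of_cube f hf (fun hd => F.no3 (hd.trans hcard))
  have hy1 : φ (y : G) = y := congrArg Subtype.val hy
  obtain ⟨c, hc⟩ := isConj_iff.mp ((hmem _).mp y.2)
  have hye : (y : G) = c⁻¹ * x * c := by rw [← hc]; group
  have hy2 : (y : G) ^ 2 = 1 := by
    rw [hye, pow_two]
    calc c⁻¹ * x * c * (c⁻¹ * x * c) = c⁻¹ * (x * x) * c := by group
      _ = 1 := by rw [hx2]; group
  have hy3 : (y : G) ≠ 1 := by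
    intro h1
    rw [h1] at hc
    apply hx
    rw [← hc]; group
  have hy4 : orderOf (y : G) = 2 := orderOf_eq_prime hy2 hy3
  exact F.fix _ hy1 (by rw [hy4])

/-- The second form. -/
theorem not_conj' (F : F3 φ) {x g : G} (hx : x ≠ 1) (hx2 : x * x = 1)
    (hg : g⁻¹ * x * g = φ (φ x)) : False := by
  have h1 := congrArg φ hg
  simp only [map_mul, map_inv, F.cube] at h1
  refine not_conj F (g := (φ g)⁻¹) hx hx2 ?_
  calc (φ g)⁻¹⁻¹ * x * (φ g)⁻¹ = (φ g)⁻¹⁻¹ * ((φ g)⁻¹ * φ x * φ g) * (φ g)⁻¹ := by rw [h1]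
    _ = φ x := by group

/-- A nontrivial element of `Z`. -/
theorem CaseC.exists_Z (C : CaseC φ T) : ∃ a ∈ Zof T, a ≠ 1 := by
  haveI : Nontrivial (T : Subgroup G) := (Subgroup.nontrivial_iff_ne_bot _).mpr C.ne
  have hp : IsPGroup 2 (T : Subgroup G) := T.isPGroup'
  haveI hcn := hp.center_nontrivial
  obtain ⟨c, hc⟩ := exists_ne (1 : center (T : Subgroup G))
  have hP : IsPGroup 2 (center (T : Subgroup G)) := by
    intro x
    obtain ⟨k, hk⟩ := hp x.1
    exact ⟨k, Subtype.ext hk⟩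
  obtain ⟨n, hn⟩ := IsPGroup.iff_card.mp hP
  have hn0 : n ≠ 0 := by
    rintro rfl
    rw [pow_zero] at hn
    have := Finite.one_lt_card (α := center (T : Subgroup G))
    omega
  have h2 : 2 ∣ Nat.card (center (T : Subgroup G)) := by
    rw [hn]; exact dvd_pow_self 2 hn0
  obtain ⟨y, hy⟩ := exists_prime_orderOf_dvd_card' (G := center (T : Subgroup G)) 2 h2
  have hy1 : y ≠ 1 := by
    intro h
    rw [h, orderOf_one] at hy
    omega
  have hy2 : y ^ 2 = 1 := by
    have h3 := pow_orderOf_eq_one y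
    rwa [hy] at h3
  refine ⟨((y : (T : Subgroup G)) : G), ⟨(y : (T : Subgroup G)).2, ?_, ?_⟩, ?_⟩
  · intro t ht
    have := Subgroup.mem_center_iff.mp y.2 ⟨t, ht⟩
    exact congrArg Subtype.val this
  · have h3 := congrArg (fun z : center (T : Subgroup G) => ((z : (T : Subgroup G)) : G)) hy2
    simpa [pow_two] using h3
  · intro h
    apply hy1
    exact Subtype.ext (Subtype.ext h)

end Cfsg.Agent.Lib.FPS3.Fusion
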